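import Cfsg.Agent.Lib.Zass.SharpEven
import Cfsg.Agent.Lib.PSLTwo.Tools
import Cfsg.Agent.Lib.SmallSimple.Basic

/-!
Recognition of `PSL(2,q)`, `q` even, among simple groups of order `(q+1) q (q-1)`: the centralisers
of involutions are 2-groups and there are at most `q^2 - 1` nontrivial 2-elements.
Also counting of elements attached to Sylow subgroups.
-/

set_option autoImplicit false

namespace Cfsg.Agent.Lib.PSLTwo

open MulAction

variable {G : Type*} [Group G] [Finite G]

theorem sylow_mem_of_smul_eq {p : ℕ} [Fact p.Prime] (P Q : Sylow p G) {a : G}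
    (ha : a ∈ (P : Subgroup G)) (h : a • Q = Q) : a ∈ (Q : Subgroup G) := by
  rw [Sylow.smul_eq_iff_mem_normalizer] at h
  have h' : a ∈ (P : Subgroup G) ⊓ Subgroup.normalizer (Q : Set G) := ⟨ha, h⟩
  rw [IsPGroup.inf_normalizer_sylow P.isPGroup'] at h'
  exact h'.2

/-- The nontrivial `p`-elements when the Sylow `p`-subgroups are TI. -/
theorem card_sylow_elements {p m : ℕ} [Fact p.Prime]
    (hm : ∀ P : Sylow p G, Nat.card (P : Subgroup G) = m) (hpow : ∃ k, m = p ^ k)
    (hTI : ∀ P Q : Sylow p G, ∀ g : G, g ≠ 1 → g ∈ (P : Subgroup G) → g ∈ (Q : Subgroup G) → P = Q) :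
    Nat.card {g : G // g ≠ 1 ∧ g ^ m = 1} = Nat.card (Sylow p G) * (m - 1) := by
  classical
  letI : Fintype (Sylow p G) := Fintype.ofFinite _
  let f : (Σ P : Sylow p G, {a : (P : Subgroup G) // a ≠ 1}) → {g : G // g ≠ 1 ∧ g ^ m = 1} :=
    fun z => ⟨((z.2 : (z.1 : Subgroup G)) : G), fun e => z.2.2 (Subtype.ext e), by
      have h := pow_card_eq_one' (x := (z.2 : (z.1 : Subgroup G)))
      rw [hm] at h
      exact congrArg Subtype.val h⟩
  have hf : Function.Bijective f := by
    refine ⟨?_, ?_⟩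
    · rintro ⟨P, ⟨a, ha⟩, ha1⟩ ⟨Q, ⟨b, hb⟩, hb1⟩ e
      have e' : a = b := congrArg Subtype.val e
      subst e'
      have := hTI P Q a (fun e => ha1 (Subtype.ext e)) ha hb
      subst this
      rfl
    · rintro ⟨g, hg1, hgm⟩
      obtain ⟨k, hk⟩ := hpow
      have hpg : IsPGroup p (Subgroup.zpowers g) := by
        refine IsPGroup.iff_card.2 ?_
        rw [Nat.card_zpowers]
        obtain ⟨j, -, hj⟩ := (Nat.dvd_prime_pow Fact.out).1 (hk ▸ orderOf_dvd_of_pow_eq_one hgm)
        exact ⟨j, hj⟩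
      obtain ⟨P, hP⟩ := hpg.exists_le_sylow
      exact ⟨⟨P, ⟨g, hP (Subgroup.mem_zpowers g)⟩, fun e => hg1 (congrArg Subtype.val e)⟩, rfl⟩
  rw [← Nat.card_congr (Equiv.ofBijective f hf), Nat.card_sigma]
  have : ∀ P : Sylow p G, Nat.card {a : (P : Subgroup G) // a ≠ 1} = m - 1 := fun P => by
    letI : Fintype (P : Subgroup G) := Fintype.ofFinite _
    rw [Nat.card_eq_fintype_card, Fintype.card_subtype_compl, Fintype.card_subtype_eq,
      ← Nat.card_eq_fintype_card, hm]
  simp only [this, Finset.sum_const, Finset.card_univ, smul_eq_mul, Nat.card_eq_fintype_card]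

theorem index_centralizer_le_card {x : G} {P : G → Prop} (hP : ∀ a : G, P (a * x * a⁻¹)) :
    (Subgroup.centralizer ({x} : Set G)).index ≤ Nat.card {g : G // P g} ∧
    (Nat.card {g : G // P g} ≤ (Subgroup.centralizer ({x} : Set G)).index →
      ∀ g, P g → IsConj x g) := by
  classical
  let C : Subgroup G := Subgroup.centralizer ({x} : Set G)
  let f : G → {g : G // P g} := fun a => ⟨a * x * a⁻¹, hP a⟩
  have hwd : ∀ a b : G, (QuotientGroup.leftRel C) a b → f a = f b := by
    intro a b hab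
    rw [QuotientGroup.leftRel_apply, Subgroup.mem_centralizer_singleton_iff] at hab
    refine Subtype.ext ?_
    show a * x * a⁻¹ = b * x * b⁻¹
    calc a * x * a⁻¹ = a * (x * (a⁻¹ * b)) * b⁻¹ := by group
      _ = a * ((a⁻¹ * b) * x) * b⁻¹ := by rw [hab]
      _ = b * x * b⁻¹ := by group
  let ψ : G ⧸ C → {g : G // P g} := Quotient.lift f hwd
  have hψ : Function.Injective ψ := by
    intro u v huv
    induction u using QuotientGroup.induction_on with | H a =>
    induction v using QuotientGroup.induction_on with | H b =>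
    have h' : a * x * a⁻¹ = b * x * b⁻¹ := congrArg Subtype.val huv
    rw [QuotientGroup.eq, Subgroup.mem_centralizer_singleton_iff]
    calc a⁻¹ * b * x = a⁻¹ * (b * x * b⁻¹) * b := by group
      _ = a⁻¹ * (a * x * a⁻¹) * b := by rw [h']
      _ = x * (a⁻¹ * b) := by group
  rw [Subgroup.index_eq_card]
  refine ⟨Nat.card_le_card_of_injective ψ hψ, fun hle g hg => ?_⟩
  obtain ⟨u, hu⟩ := (hψ.bijective_of_nat_card_le hle).2 ⟨g, hg⟩
  induction u using QuotientGroup.induction_on with | H a =>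
  exact isConj_iff.2 ⟨a, congrArg Subtype.val hu⟩

/-- In `C(Q)`, at least `|C(Q)| - |C(Q)|/p` elements have order divisible by `p`; summed over the
Sylow subgroups of order `p`. -/
theorem card_singular_ge {p : ℕ} [Fact p.Prime]
    (hp1 : ∀ P : Sylow p G, Nat.card (P : Subgroup G) = p) {c : ℕ}
    (hc : ∀ P : Sylow p G, c ≤ Nat.card (Subgroup.centralizer ((P : Subgroup G) : Set G))) :
    Nat.card (Sylow p G) * (c - c / p) ≤ Nat.card {g : G // p ∣ orderOf g} := by
  classical
  letI : Fintype (Sylow p G) := Fintype.ofFinite _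
  have hp : p.Prime := Fact.out
  let f : (Σ P : Sylow p G, {g : Subgroup.centralizer ((P : Subgroup G) : Set G) // p ∣ orderOf g}) →
      {g : G // p ∣ orderOf g} := fun z =>
    ⟨((z.2 : Subgroup.centralizer ((z.1 : Subgroup G) : Set G)) : G), by
      rw [Subgroup.orderOf_coe]; exact z.2.2⟩
  have hgen : ∀ (P : Sylow p G) (g : G), g ∈ Subgroup.centralizer ((P : Subgroup G) : Set G) →
      p ∣ orderOf g → g ^ (orderOf g / p) ∈ (P : Subgroup G) := fun P g hg hpg => by
    have hord : orderOf (g ^ (orderOf g / p)) = p := orderOf_pow_orderOf_div (orderOf_pos g).ne' hpg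
    have hpz : IsPGroup p (Subgroup.zpowers (g ^ (orderOf g / p))) :=
      IsPGroup.of_card (n := 1) (by rw [Nat.card_zpowers, hord, pow_one])
    have hmem : g ^ (orderOf g / p) ∈ Subgroup.zpowers (g ^ (orderOf g / p)) ⊓
        Subgroup.normalizer (P : Set G) :=
      ⟨Subgroup.mem_zpowers _, Subgroup.centralizer_le_normalizer _ (pow_mem hg _)⟩
    rw [IsPGroup.inf_normalizer_sylow hpz] at hmem
    exact hmem.2
  have hf : Function.Injective f := by
    rintro ⟨P, ⟨a, ha⟩, hpa⟩ ⟨Q, ⟨b, hb⟩, hpb⟩ e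
    have e' : a = b := congrArg Subtype.val e
    subst e'
    rw [Subgroup.orderOf_mk] at hpa
    have hP := hgen P a ha hpa
    have hQ := hgen Q a hb hpa
    have hPQ : P = Q := by
      have hord : orderOf (a ^ (orderOf a / p)) = p := orderOf_pow_orderOf_div (orderOf_pos a).ne' hpa
      refine Sylow.ext ?_
      rw [← Subgroup.eq_of_le_of_card_ge (Subgroup.zpowers_le.2 hP)
          (by rw [Nat.card_zpowers, hord, hp1]),
        ← Subgroup.eq_of_le_of_card_ge (Subgroup.zpowers_le.2 hQ)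
          (by rw [Nat.card_zpowers, hord, hp1])]
    subst hPQ
    rfl
  refine le_trans ?_ (Nat.card_le_card_of_injective f hf)
  rw [Nat.card_sigma]
  refine le_trans (le_of_eq ?_) (Finset.sum_le_sum fun P _ => ?_) (a := Nat.card (Sylow p G) * (c - c / p))
    (b := ∑ _P : Sylow p G, (c - c / p))
  · simp [Nat.card_eq_fintype_card]
  set C := Subgroup.centralizer ((P : Subgroup G) : Set G) with hC
  letI : Fintype C := Fintype.ofFinite _
  have hPC : (P : Subgroup G) ≤ C := by
    haveI := isCyclic_of_prime_card (hp1 P)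
    intro x hx
    refine Subgroup.mem_centralizer_iff.2 fun y hy => ?_
    letI := IsCyclic.commGroup (α := ↥(P : Subgroup G))
    exact congrArg Subtype.val (mul_comm (⟨y, hy⟩ : ↥(P : Subgroup G)) ⟨x, hx⟩)
  let P' : Subgroup C := (P : Subgroup G).subgroupOf C
  let r : {g : C // ¬ p ∣ orderOf g} → C ⧸ P' := fun g => QuotientGroup.mk (g : C)
  have hr : Function.Injective r := by
    rintro ⟨a, ha⟩ ⟨b, hb⟩ e
    have e' : (QuotientGroup.mk a : C ⧸ P') = QuotientGroup.mk b := e
    have hab' : a⁻¹ * b ∈ P' := QuotientGroup.eq.1 e'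
    have hab : ((a⁻¹ * b : C) : G) ∈ (P : Subgroup G) := Subgroup.mem_subgroupOf.1 hab'
    refine Subtype.ext (inv_mul_eq_one.1 ?_)
    by_contra hne
    have hz : (a⁻¹ * b) ^ p = 1 := by
      have h := pow_card_eq_one' (x := (⟨_, hab⟩ : (P : Subgroup G)))
      rw [hp1] at h
      exact Subtype.ext (by simpa using congrArg Subtype.val h)
    have hzo : orderOf (a⁻¹ * b) = p := orderOf_eq_prime hz hne
    have hcomm : Commute a (a⁻¹ * b) :=
      Subtype.ext (Subgroup.mem_centralizer_iff.1 a.2 _ hab).symm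
    have hcop : (orderOf a).Coprime (orderOf (a⁻¹ * b)) := by
      rw [hzo]; exact (hp.coprime_iff_not_dvd.2 ha).symm
    have := hcomm.orderOf_mul_eq_mul_orderOf_of_coprime hcop
    rw [mul_inv_cancel_left, hzo] at this
    exact hb (this ▸ dvd_mul_left p _)
  have h1 : Nat.card {g : C // ¬ p ∣ orderOf g} ≤ Nat.card C / p := by
    refine (Nat.card_le_card_of_injective r hr).trans (le_of_eq ?_)
    rw [← Subgroup.index_eq_card]
    have h := P'.card_mul_index
    rw [Nat.card_congr (Subgroup.subgroupOfEquivOfLe hPC).toEquiv, hp1] at h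
    rw [← h, Nat.mul_div_cancel_left _ hp.pos]
  rw [Nat.card_eq_fintype_card, Fintype.card_subtype_compl, ← Nat.card_eq_fintype_card,
    ← Nat.card_eq_fintype_card] at h1
  have h2 : c ≤ Nat.card C := hc P
  have hmono : Monotone fun x : ℕ => x - x / p := monotone_nat_of_le_succ fun x => by
    simp only [Nat.succ_div]
    have := Nat.div_le_self x p
    split <;> omega
  have h4 : c - c / p ≤ Nat.card C - Nat.card C / p := hmono h2
  omega

/-- Recognition of `PSL(2,q)` for `q = 2 ^ k`. -/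
theorem iso_psl_of_two_elements [IsSimpleGroup G] {k q : ℕ} (hk : 1 < k) (hq : q = 2 ^ k)
    (hG : Nat.card G = (q + 1) * q * (q - 1))
    (hC : ∀ t : G, t ≠ 1 → t * t = 1 → Nat.card (Subgroup.centralizer ({t} : Set G)) ∣ q)
    (hcount : Nat.card {g : G // g ≠ 1 ∧ g ^ q = 1} ≤ (q + 1) * (q - 1))
    {F : Type*} [Field F] [Fintype F] (hF : Fintype.card F = q) :
    Nonempty (G ≃* Matrix.ProjectiveSpecialLinearGroup (Fin 2) F) := by
  classical
  haveI : Fact (Nat.Prime 2) := ⟨Nat.prime_two⟩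
  have hq4 : 4 ≤ q := hq ▸ le_trans (by norm_num) (Nat.pow_le_pow_right (by norm_num) hk)
  have hodd : ¬ 2 ∣ (q + 1) * (q - 1) := by
    have h2 : 2 ∣ q := hq ▸ dvd_pow_self 2 (by omega)
    rw [Nat.prime_two.dvd_mul]; omega
  have hS : ∀ S : Sylow 2 G, Nat.card (S : Subgroup G) = q := fun S => by
    rw [hq]
    exact SmallSimple.card_sylow_subgroup S (m := (q + 1) * (q - 1)) (by rw [hG, ← hq]; ring) hodd
  obtain ⟨t, ht⟩ := exists_prime_orderOf_dvd_card' (G := G) 2
    (by rw [hG]; exact dvd_mul_of_dvd_left (dvd_mul_of_dvd_right (hq ▸ dvd_pow_self 2 (by omega)) _) _)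
  have ht1 : t ≠ 1 := fun e => by rw [e, orderOf_one] at ht; omega
  have ht2 : t * t = 1 := by rw [← pow_two, ← ht, pow_orderOf_eq_one]
  have hqpow : ∀ g : G, g * g = 1 → g ^ q = 1 := fun g hg => by
    rw [hq, show k = (k - 1) + 1 by omega, pow_succ', pow_mul, pow_two, hg, one_pow]
  have hP : ∀ a : G, a * t * a⁻¹ ≠ 1 ∧ (a * t * a⁻¹) ^ q = 1 := fun a =>
    ⟨fun e => ht1 (conj_eq_one_iff.1 e), by rw [conj_pow, hqpow t ht2, mul_one, mul_inv_cancel]⟩
  obtain ⟨hidx, hconj⟩ := index_centralizer_le_card (x := t)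
    (P := fun g => g ≠ 1 ∧ g ^ q = 1) hP
  have hclass : ∀ g : G, g ≠ 1 → g ^ q = 1 → IsConj t g ∧ g * g = 1 := by
    intro g hg hgq
    have hle : (q + 1) * (q - 1) ≤ (Subgroup.centralizer ({t} : Set G)).index := by
      have h := Subgroup.card_mul_index (Subgroup.centralizer ({t} : Set G))
      rw [hG] at h
      have hle := Nat.le_of_dvd (by omega) (hC t ht1 ht2)
      nlinarith
    obtain ⟨a, ha⟩ := isConj_iff.1 (hconj (hcount.trans hle) g ⟨hg, hgq⟩)
    refine ⟨isConj_iff.2 ⟨a, ha⟩, ?_⟩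
    rw [← ha]; calc a * t * a⁻¹ * (a * t * a⁻¹) = a * (t * t) * a⁻¹ := by group
      _ = 1 := by rw [ht2, mul_one, mul_inv_cancel]
  have hset : Nat.card {g : G // g ≠ 1 ∧ g ^ q = 1} = (q + 1) * (q - 1) := by
    refine le_antisymm hcount (le_trans ?_ hidx)
    have h := Subgroup.card_mul_index (Subgroup.centralizer ({t} : Set G))
    rw [hG] at h
    have hle := Nat.le_of_dvd (by omega) (hC t ht1 ht2)
    nlinarith
  -- the Sylow 2-subgroups are the centralisers of their involutions
  have hsq : ∀ (S : Sylow 2 G) (s : G), s ∈ (S : Subgroup G) → s * s = 1 := fun S s hs => by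
    by_cases h1 : s = 1
    · rw [h1, one_mul]
    · have h := pow_card_eq_one' (x := (⟨s, hs⟩ : (S : Subgroup G)))
      rw [hS] at h
      exact (hclass s h1 (congrArg Subtype.val h)).2
  have hcen : ∀ (S : Sylow 2 G) (s : G), s ∈ (S : Subgroup G) → s ≠ 1 →
      (S : Subgroup G) = Subgroup.centralizer ({s} : Set G) := fun S s hs h1 => by
    refine Subgroup.eq_of_le_of_card_ge (fun x hx => Subgroup.mem_centralizer_singleton_iff.2 ?_) ?_
    · have ix : ∀ y ∈ (S : Subgroup G), y⁻¹ = y := fun y hy =>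
        inv_eq_of_mul_eq_one_right (hsq S y hy)
      calc x * s = (x * s)⁻¹ := (ix _ (mul_mem hx hs)).symm
        _ = s * x := by rw [mul_inv_rev, ix s hs, ix x hx]
    · rw [hS]; exact Nat.le_of_dvd (by omega) (hC s h1 (hsq S s hs))
  have hTI : ∀ P Q : Sylow 2 G, ∀ g : G, g ≠ 1 → g ∈ (P : Subgroup G) → g ∈ (Q : Subgroup G) →
      P = Q := fun P Q g h1 hP hQ => Sylow.ext ((hcen P g hP h1).trans (hcen Q g hQ h1).symm)
  have hn : Nat.card (Sylow 2 G) = q + 1 := by
    have h := card_sylow_elements hS ⟨k, hq⟩ hTI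
    rw [hset] at h
    exact (Nat.eq_of_mul_eq_mul_right (by omega) h).symm
  letI : Fintype (Sylow 2 G) := Fintype.ofFinite _
  have hcardΩ : Fintype.card (Sylow 2 G) = q + 1 := by rw [← Nat.card_eq_fintype_card, hn]
  have hfree : ∀ (A B : Sylow 2 G) (a : G), A ≠ B → a ∈ (A : Subgroup G) → a • B = B → a = 1 :=
    fun A B a hne ha hfix => by_contra fun h1 => hne (hTI A B a h1 ha (sylow_mem_of_smul_eq A B ha hfix))
  have hsharp : ∀ g : G, ∀ A B C : Sylow 2 G, A ≠ B → B ≠ C → A ≠ C → g • A = A → g • B = B →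
      g • C = C → g = 1 := by
    intro g A B C hAB hBC hAC hA hB hC'
    let F : ↥(A : Subgroup G) → {D : Sylow 2 G // D ≠ A} := fun s => ⟨(s : G) • B, fun e => hAB (by
      have : (s : G) • A = A := Sylow.smul_eq_iff_mem_normalizer.2 (Subgroup.le_normalizer s.2)
      exact (MulAction.injective (s : G) (this.trans e.symm)))⟩
    have hF : Function.Bijective F := (Nat.bijective_iff_injective_and_card F).2 ⟨fun s s' e => by
      have e' : (s : G) • B = (s' : G) • B := congrArg Subtype.val e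
      refine Subtype.ext (inv_mul_eq_one.1 (hfree A B _ hAB (mul_mem (inv_mem s'.2) s.2) ?_)).symm
      rw [mul_smul, e', inv_smul_smul], by
      rw [hS, Nat.card_eq_fintype_card, Fintype.card_subtype_compl, Fintype.card_subtype_eq, hcardΩ]
      omega⟩
    obtain ⟨s, hs⟩ := hF.2 ⟨C, fun e => hAC e.symm⟩
    have hs' : (s : G) • B = C := congrArg Subtype.val hs
    have hs1 : (s : G) ≠ 1 := fun e => hBC (by rw [← hs', e, one_smul])
    have hgN : g ∈ Subgroup.normalizer ((A : Subgroup G) : Set G) :=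
      Sylow.smul_eq_iff_mem_normalizer.1 hA
    have hconjmem : (s : G)⁻¹ * (g * s * g⁻¹) ∈ (A : Subgroup G) :=
      mul_mem (inv_mem s.2) ((Subgroup.mem_normalizer_iff.1 hgN _).1 s.2)
    have h := hfree A B _ hAB hconjmem (by
      rw [mul_smul, mul_smul, mul_smul, inv_smul_eq_iff.2 hB.symm, hs', hC', ← hs', inv_smul_smul])
    have hgs : g ∈ Subgroup.centralizer ({(s : G)} : Set G) := by
      rw [Subgroup.mem_centralizer_singleton_iff]
      have h' : g * s * g⁻¹ = s := (inv_mul_eq_one.1 h).symm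
      exact mul_inv_eq_iff_eq_mul.1 h'
    rw [← hcen A s s.2 hs1] at hgs
    exact hfree A B g hAB hgs hB
  haveI : FaithfulSMul G (Sylow 2 G) := ⟨fun {g h} e => by
    have h3 : 2 < Fintype.card (Sylow 2 G) := by omega
    obtain ⟨A, B, C, hAB, hAC, hBC⟩ := Fintype.two_lt_card_iff.1 h3
    refine inv_mul_eq_one.1 (hsharp (g⁻¹ * h) A B C hAB hBC hAC ?_ ?_ ?_) <;>
      rw [mul_smul, ← e, inv_smul_smul]⟩
  have hsharp3 : Zass.Sharp3 G (Sylow 2 G) :=
  { trans := fun a b c a' b' c' h1 h2 h3 h1' h2' h3' => by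
      have hinj : ∀ x y z : Sylow 2 G, x ≠ y → y ≠ z → x ≠ z → Function.Injective ![x, y, z] :=
        fun x y z hxy hyz hxz i j e => by
          fin_cases i <;> fin_cases j <;> first
            | rfl
            | exact absurd e hxy
            | exact absurd e hyz
            | exact absurd e hxz
            | exact absurd e hxy.symm
            | exact absurd e hyz.symm
            | exact absurd e hxz.symm
      let V : G → (Fin 3 ↪ Sylow 2 G) := fun g =>
        ⟨fun i => g • ![a, b, c] i, (MulAction.injective g).comp (hinj a b c h1 h2 h3)⟩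
      have hV : Function.Bijective V := (Nat.bijective_iff_injective_and_card V).2 ⟨fun g h e => by
        refine (inv_mul_eq_one.1 (hsharp (h⁻¹ * g) a b c h1 h2 h3 ?_ ?_ ?_)).symm <;>
          rw [mul_smul, inv_smul_eq_iff]
        · exact congrArg (fun v : Fin 3 ↪ Sylow 2 G => v 0) e
        · exact congrArg (fun v : Fin 3 ↪ Sylow 2 G => v 1) e
        · exact congrArg (fun v : Fin 3 ↪ Sylow 2 G => v 2) e, by
        rw [Nat.card_eq_fintype_card (α := Fin 3 ↪ Sylow 2 G), Fintype.card_embedding_eq, hcardΩ,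
          Fintype.card_fin, hG]
        simp only [Nat.descFactorial_succ, Nat.descFactorial_zero, Nat.sub_zero]
        rw [show q + 1 - 2 = q - 1 by omega, show q + 1 - 1 = q by omega]
        ring⟩
      obtain ⟨g, hg⟩ := hV.2 ⟨![a', b', c'], hinj a' b' c' h1' h2' h3'⟩
      exact ⟨g, congrArg (fun v : Fin 3 ↪ Sylow 2 G => v 0) hg,
        congrArg (fun v : Fin 3 ↪ Sylow 2 G => v 1) hg, congrArg (fun v : Fin 3 ↪ Sylow 2 G => v 2) hg⟩
    sharp := hsharp
    three := by omega }
  have heven : Even q := hq ▸ (Nat.even_pow.2 ⟨even_two, by omega⟩)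
  obtain ⟨f, -, hf, K, _, _, hK, ⟨i⟩⟩ := Zass.pgl_of_sharp3_odd hsharp3
    (by rw [hcardΩ]; exact heven.add_one)
  have hKq : Fintype.card K = q := by omega
  obtain ⟨j⟩ := psl_congr_card (K := K) (K' := F) (hKq.trans hF.symm)
  have hL : Lsub K = ⊤ := Lsub_eq_top_of_even (hKq ▸ heven)
  exact ⟨i.trans (((pslEquiv (F := K)).trans
    ((MulEquiv.subgroupCongr hL).trans Subgroup.topEquiv)).symm.trans j)⟩

end Cfsg.Agent.Lib.PSLTwo
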