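import Cfsg.Agent.Lib.PSLTwo.RecogCount
import Cfsg.Agent.Lib.Zass.Struct
import Cfsg.Agent.Lib.Alt.AltSylow

/-!
A simple group of order 360 is `PSL(2,9)`: its Sylow 3-subgroups are TI and it acts on them as a
Zassenhaus group of degree 10.
-/

set_option autoImplicit false

namespace Cfsg.Agent.Lib.PSLTwo

open MulAction

variable {G : Type*} [Group G] [Finite G] [IsSimpleGroup G]

theorem nine_data (h : Nat.card G = 360) :
    Nat.card (Sylow 3 G) = 10 ∧ (∀ R : Sylow 3 G, Nat.card (R : Subgroup G) = 9) ∧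
      (∀ R R' : Sylow 3 G, ∀ g : G, g ≠ 1 → g ∈ (R : Subgroup G) → g ∈ (R' : Subgroup G) → R = R') := by
  haveI : Fact (Nat.Prime 2) := ⟨Nat.prime_two⟩
  haveI : Fact (Nat.Prime 3) := ⟨Nat.prime_three⟩
  haveI : Fact (Nat.Prime 5) := ⟨Nat.prime_five⟩
  have hnc : ¬ IsMulCommutative G := SmallSimple.not_isMulCommutative_of_card (by rw [h]; norm_num)
  have hidx : ∀ H : Subgroup G, H ≠ ⊤ → 6 ≤ H.index := by
    intro H hH
    have h2 := SmallSimple.two_mul_card_dvd_factorial hnc H hH
    rw [h] at h2
    by_contra hlt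
    generalize H.index = n at *
    interval_cases n <;> norm_num [Nat.factorial] at h2
  have hR : ∀ R : Sylow 3 G, Nat.card (R : Subgroup G) = 9 := fun R => by
    simpa using SmallSimple.card_sylow_subgroup R (k := 2) (m := 40) h (by norm_num)
  have hab : ∀ R : Sylow 3 G, IsMulCommutative (R : Subgroup G) := fun R =>
    IsPGroup.isMulCommutative_of_card_eq_prime_sq (p := 3) (by rw [hR R]; rfl)
  have hn : Nat.card (Sylow 3 G) = 10 := by
    obtain ⟨R⟩ : Nonempty (Sylow 3 G) := inferInstance
    have h1 := hidx _ (SmallSimple.sylow_normalizer_ne_top hnc R (by rw [h]; norm_num))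
    rw [← SmallSimple.card_sylow_eq_index R] at h1
    have hd := card_sylow_dvd (G := G) (p := 3) (k := 2) (m := 40) h (by norm_num)
    obtain ⟨-, h2, -⟩ := SmallSimple.card_sylow_facts (p := 3) hnc (by rw [h]; norm_num)
    have hne := SmallSimple.card_sylow_ne_index hnc R (by rw [h]; norm_num) (hab R)
    have hi := (R : Subgroup G).card_mul_index
    rw [hR R, h] at hi
    rw [show (R : Subgroup G).index = 40 by omega] at hne
    have hnum : ∀ n < 41, n ∣ 40 → n % 3 = 1 → 6 ≤ n → n ≠ 40 → n = 10 := by decide +kernel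
    exact hnum _ (Nat.lt_succ_of_le (Nat.le_of_dvd (by norm_num) hd)) hd h2 h1 hne
  refine ⟨hn, hR, fun R R' g hg hgR hgR' => ?_⟩
  by_contra hne
  set C := Subgroup.centralizer ({g} : Set G) with hC
  have hle : ∀ S : Sylow 3 G, g ∈ (S : Subgroup G) → (S : Subgroup G) ≤ C := fun S hS a ha =>
    Subgroup.mem_centralizer_singleton_iff.2
      (congrArg Subtype.val ((hab S).is_comm.comm ⟨a, ha⟩ ⟨g, hS⟩))
  have hCtop : C ≠ ⊤ := fun e => by
    rcases (inferInstance : (Subgroup.center G).Normal).eq_bot_or_eq_top with hb | ht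
    · refine hg ?_
      rw [← Subgroup.mem_bot, ← hb, Subgroup.mem_center_iff]
      exact fun a => Subgroup.mem_centralizer_singleton_iff.1 (e ▸ Subgroup.mem_top a : a ∈ C)
    · exact hnc (Subgroup.center_eq_top_iff.1 ht)
  obtain ⟨k, hk⟩ : 9 ∣ Nat.card C := hR R ▸ Subgroup.card_dvd_of_le (hle R hgR)
  have hk6 : k ≤ 6 := by
    have := C.card_mul_index
    have := hidx C hCtop
    rw [hk, h] at *
    nlinarith
  have hk40 : k ∣ 40 := by
    have := C.card_subgroup_dvd_card
    rw [hk, h] at this
    exact Nat.dvd_of_mul_dvd_mul_left (by norm_num : 0 < 9) this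
  let R₀ : Sylow 3 C := R.subtype (hle R hgR)
  have hR₀ : Nat.card (R₀ : Subgroup C) = 9 := by
    rw [show (R₀ : Subgroup C) = (R : Subgroup G).subgroupOf C from R.coe_subtype (hle R hgR),
      Nat.card_congr (Subgroup.subgroupOfEquivOfLe (hle R hgR)).toEquiv, hR]
  have hn1 : Nat.card (Sylow 3 C) ≠ 1 := fun e => by
    haveI : Subsingleton (Sylow 3 C) := (Nat.card_eq_one_iff_unique.1 e).1
    have h1 := congrArg (fun S : Sylow 3 C => (S : Subgroup C).map C.subtype)
      (Subsingleton.elim (R.subtype (hle R hgR)) (R'.subtype (hle R' hgR')))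
    simp only [Sylow.coe_subtype, Subgroup.subgroupOf_map_subtype, inf_eq_left.2 (hle R hgR),
      inf_eq_left.2 (hle R' hgR')] at h1
    exact hne (Sylow.ext h1)
  have hd := R₀.card_dvd_index
  have hmul := (R₀ : Subgroup C).card_mul_index
  rw [hR₀, hk] at hmul
  rw [Nat.eq_of_mul_eq_mul_left (by norm_num : 0 < 9) hmul] at hd
  have hmod := card_sylow_modEq_one 3 C
  rw [Nat.ModEq] at hmod
  have hk0 : 0 < k := Nat.pos_of_ne_zero fun e => by
    rw [e, mul_zero] at hk
    exact absurd hk Nat.card_pos.ne'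
  have hn4 : Nat.card (Sylow 3 C) = 4 ∧ k = 4 := by
    have := Nat.le_of_dvd hk0 hd
    generalize Nat.card (Sylow 3 C) = n at *
    interval_cases k <;> first | (exfalso; omega) | (interval_cases n <;> omega)
  obtain ⟨hn4, rfl⟩ := hn4
  have hNR : (R₀ : Subgroup C) = Subgroup.normalizer ((R₀ : Subgroup C) : Set C) := by
    refine Subgroup.eq_of_le_of_card_ge Subgroup.le_normalizer ?_
    have h' := Subgroup.card_mul_index (Subgroup.normalizer ((R₀ : Subgroup C) : Set C))
    rw [← SmallSimple.card_sylow_eq_index R₀, hn4, hk] at h'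
    omega
  haveI hR₀c : IsMulCommutative (R₀ : Subgroup C) :=
    IsPGroup.isMulCommutative_of_card_eq_prime_sq (p := 3) (by rw [hR₀]; rfl)
  have hNC : Subgroup.normalizer (R₀ : Set C) ≤ Subgroup.centralizer (R₀ : Set C) := fun a ha =>
    Subgroup.mem_centralizer_iff.2 fun b hb => by
      have ha' : a ∈ (R₀ : Subgroup C) := by rw [hNR]; exact ha
      exact congrArg Subtype.val (hR₀c.is_comm.comm ⟨b, hb⟩ ⟨a, ha'⟩)
  have hK := MonoidHom.ker_transferSylow_isComplement' R₀ hNC
  set K : Subgroup G := (MonoidHom.transferSylow R₀ hNC).ker.map C.subtype with hKdef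
  have hK4 : Nat.card K = 4 := by
    have := hK.card_mul
    rw [hR₀, hk] at this
    rw [hKdef, Subgroup.card_map_of_injective C.subtype_injective]
    omega
  have hKtop : Subgroup.normalizer (K : Set G) ≠ ⊤ := fun e => by
    rcases (Subgroup.normalizer_eq_top_iff.1 e).eq_bot_or_eq_top with hb | ht
    · rw [hb, Subgroup.card_bot] at hK4; omega
    · rw [ht, Subgroup.card_top, h] at hK4; omega
  have hCK : C ≤ Subgroup.normalizer (K : Set G) := by
    have h' := Subgroup.le_normalizer_map (H := (MonoidHom.transferSylow R₀ hNC).ker) C.subtype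
    rw [Subgroup.normalizer_eq_top, ← MonoidHom.range_eq_map, Subgroup.range_subtype] at h'
    exact h'
  obtain ⟨S, hKS⟩ := (IsPGroup.of_card (p := 2) (n := 2)
    (show Nat.card K = 2 ^ 2 by rw [hK4]; rfl)).exists_le_sylow
  have hS8 : Nat.card (S : Subgroup G) = 8 := by
    simpa using SmallSimple.card_sylow_subgroup S (k := 3) (m := 45) h (by norm_num)
  have hSN : (S : Subgroup G) ≤ Subgroup.normalizer (K : Set G) := by
    have h2 : (K.subgroupOf (S : Subgroup G)).index = 2 := by
      have := (K.subgroupOf (S : Subgroup G)).card_mul_index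
      rw [Nat.card_congr (Subgroup.subgroupOfEquivOfLe hKS).toEquiv, hK4, hS8] at this
      omega
    haveI := Subgroup.normal_of_index_eq_two h2
    exact (Subgroup.normal_subgroupOf_iff_le_normalizer hKS).1 inferInstance
  have a9 := Subgroup.card_dvd_of_le hCK
  have a8 := Subgroup.card_dvd_of_le hSN
  rw [hk] at a9
  rw [hS8] at a8
  have hle6 := hidx _ hKtop
  have hmulN := Subgroup.card_mul_index (Subgroup.normalizer (K : Set G))
  rw [h] at hmulN
  have hNle : Nat.card (Subgroup.normalizer (K : Set G)) ≤ 60 := by nlinarith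
  have := Nat.card_pos (α := Subgroup.normalizer (K : Set G))
  omega

theorem iso_psl_nine (h : Nat.card G = 360) {F : Type*} [Field F] [Fintype F] (hF : Fintype.card F = 9) :
    Nonempty (G ≃* Matrix.ProjectiveSpecialLinearGroup (Fin 2) F) := by
  classical
  haveI : Fact (Nat.Prime 2) := ⟨Nat.prime_two⟩
  haveI : Fact (Nat.Prime 3) := ⟨Nat.prime_three⟩
  have hnc : ¬ IsMulCommutative G := SmallSimple.not_isMulCommutative_of_card (by rw [h]; norm_num)
  obtain ⟨hn, hR, hTI⟩ := nine_data h
  letI : Fintype (Sylow 3 G) := Fintype.ofFinite _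
  have hΩ : Fintype.card (Sylow 3 G) = 10 := by rw [← Nat.card_eq_fintype_card, hn]
  let f : G →* Equiv.Perm (Sylow 3 G) := MulAction.toPermHom G (Sylow 3 G)
  have hf : Function.Injective f := by
    rw [← MonoidHom.ker_eq_bot_iff]
    refine ((inferInstance : f.ker.Normal).eq_bot_or_eq_top).resolve_right fun ht => ?_
    have h1 : Subsingleton (Sylow 3 G) := ⟨fun P Q => by
      obtain ⟨g, hg⟩ := MulAction.exists_smul_eq G P Q
      have hg1 : f g = 1 := (f.mem_ker).1 (ht ▸ Subgroup.mem_top g)
      rw [← hg]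
      exact (congrArg (fun σ : Equiv.Perm (Sylow 3 G) => σ P) hg1).symm⟩
    have := Finite.card_le_one_iff_subsingleton.2 h1
    omega
  haveI : FaithfulSMul G (Sylow 3 G) := ⟨fun {g g'} e => hf (Equiv.ext e)⟩
  have hfree : ∀ (A B : Sylow 3 G) (a : G), A ≠ B → a ∈ (A : Subgroup G) → a • B = B → a = 1 :=
    fun A B a hne ha hfix => by_contra fun h1 => hne (hTI A B a h1 ha (sylow_mem_of_smul_eq A B ha hfix))
  have horb : ∀ (A B : Sylow 3 G) (hAB : A ≠ B), Function.Bijective (fun s : ↥(A : Subgroup G) =>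
      (⟨(s : G) • B, fun e => hAB (by
        have h' : (s : G) • A = A := Sylow.smul_eq_iff_mem_normalizer.2 (Subgroup.le_normalizer s.2)
        exact MulAction.injective (s : G) (h'.trans e.symm))⟩ : {D : Sylow 3 G // D ≠ A})) := by
    intro A B hAB
    refine (Nat.bijective_iff_injective_and_card _).2 ⟨fun s s' e => ?_, ?_⟩
    · have e' : (s : G) • B = (s' : G) • B := congrArg Subtype.val e
      refine Subtype.ext (inv_mul_eq_one.1 (hfree A B _ hAB (mul_mem (inv_mem s'.2) s.2) ?_)).symm
      rw [mul_smul, e', inv_smul_smul]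
    · rw [hR, Nat.card_eq_fintype_card, Fintype.card_subtype_compl, Fintype.card_subtype_eq, hΩ]
  have htwo : IsMultiplyPretransitive G (Sylow 3 G) 2 := by
    rw [is_two_pretransitive_iff]
    intro a b c d hab hcd
    obtain ⟨g, hg⟩ := MulAction.exists_smul_eq G a c
    have hne : g • b ≠ c := fun e => hab (MulAction.injective g (hg.trans e.symm))
    obtain ⟨s, hs⟩ := (horb c (g • b) hne.symm).2 ⟨d, hcd.symm⟩
    refine ⟨(s : G) * g, ?_, ?_⟩
    · rw [mul_smul, hg]
      exact Sylow.smul_eq_iff_mem_normalizer.2 (Subgroup.le_normalizer s.2)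
    · rw [mul_smul]; exact congrArg Subtype.val hs
  have hH : ∀ a b : Sylow 3 G, a ≠ b → Nat.card ↥(stabilizer G a ⊓ stabilizer G b) = 4 := by
    intro a b hab
    haveI : IsPretransitive G (Sylow 3 G) := inferInstance
    have h36 : Nat.card (stabilizer G a) = 36 := by
      have := (stabilizer G a).card_mul_index
      rw [index_stabilizer_of_transitive, hn, h] at this
      omega
    let S := stabilizer (stabilizer G a) b
    have hS : Nat.card S * 9 = 36 := by
      have h1 := S.card_mul_index
      rw [h36, MulAction.index_stabilizer] at h1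
      rw [← h1]
      congr 1
      have hor : orbit (stabilizer G a) b = {D | D ≠ a} := by
        ext D
        constructor
        · rintro ⟨g, rfl⟩ e
          exact hab (MulAction.injective (g : G) ((g.2 : (g : G) • a = a).trans e.symm))
        · intro hD
          obtain ⟨s, hs⟩ := (horb a b hab).2 ⟨D, hD⟩
          exact ⟨⟨s, Sylow.smul_eq_iff_mem_normalizer.2 (Subgroup.le_normalizer s.2)⟩,
            congrArg Subtype.val hs⟩
      rw [hor, ← Nat.card_coe_set_eq]
      show 9 = Nat.card {D : Sylow 3 G // D ≠ a}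
      rw [Nat.card_eq_fintype_card, Fintype.card_subtype_compl, Fintype.card_subtype_eq, hΩ]
    have e : Nat.card ↥(stabilizer G a ⊓ stabilizer G b) = Nat.card S :=
      Nat.card_congr ⟨fun g => ⟨⟨g.1, g.2.1⟩, g.2.2⟩, fun g => ⟨g.1.1, g.1.2, g.2⟩,
        fun _ => rfl, fun _ => rfl⟩
    omega
  -- an involution fixes at most two points, by parity
  have hinv : ∀ g : G, g ≠ 1 → g * g = 1 → ∀ A B C : Sylow 3 G, A ≠ B → B ≠ C → A ≠ C →
      g • A = A → g • B = B → g • C = C → False := by
    intro g hg1 hg2 A B C hAB hBC hAC hA hB hC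
    obtain ⟨s, hs⟩ := (horb A B hAB).2 ⟨C, hAC.symm⟩
    have hs' : (s : G) • B = C := congrArg Subtype.val hs
    have hgN : g ∈ Subgroup.normalizer ((A : Subgroup G) : Set G) := Sylow.smul_eq_iff_mem_normalizer.1 hA
    have hgN' : ∀ u ∈ (A : Subgroup G), g * u * g⁻¹ ∈ (A : Subgroup G) := fun u hu =>
      (Subgroup.mem_normalizer_iff.1 hgN u).1 hu
    -- fixed points other than `A` are the orbit of `B` under the centraliser of `g` in `A`
    let Z : Subgroup ↥(A : Subgroup G) :=
      (Subgroup.centralizer ({g} : Set G)).subgroupOf (A : Subgroup G)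
    have hfix : ∀ u : ↥(A : Subgroup G), g • (u : G) • B = (u : G) • B ↔ u ∈ Z := by
      intro u
      rw [Subgroup.mem_subgroupOf, Subgroup.mem_centralizer_singleton_iff]
      constructor
      · intro e
        have h1 := hfree A B _ hAB (mul_mem (inv_mem u.2) (hgN' u u.2)) (by
          rw [mul_smul, mul_smul, mul_smul, inv_smul_eq_iff.2 hB.symm, e, inv_smul_smul])
        exact (mul_inv_eq_iff_eq_mul.1 (inv_mul_eq_one.1 h1).symm).symm
      · intro e
        rw [← mul_smul, ← e, mul_smul, hB]
    have hsZ : s ∈ Z := (hfix s).1 (by rw [hs', hC])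
    have hZ1 : Z ≠ ⊥ := fun e => hBC (by
      rw [e, Subgroup.mem_bot] at hsZ
      rw [← hs', hsZ, OneMemClass.coe_one, one_smul])
    have hZ : Nat.card Z = 3 ∨ Nat.card Z = 9 := by
      have hd := Z.card_subgroup_dvd_card
      rw [hR, show 9 = 3 ^ 2 by rfl, Nat.dvd_prime_pow Nat.prime_three] at hd
      obtain ⟨i, hi, hi'⟩ := hd
      have := (Subgroup.one_lt_card_iff_ne_bot Z).2 hZ1
      interval_cases i <;> omega
    have hσ : Equiv.Perm.sign (f g) = 1 :=
      SmallSimple.mem_alternating_of_perfect (SmallSimple.commutator_eq_top hnc) f g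
    obtain ⟨k, hk, hev⟩ := Cfsg.Agent.Lib.Alt.sign_of_involution (z := f g) (by rw [← map_mul, hg2, map_one])
    have hsupp : (f g).support.card + (1 + Nat.card Z) = 10 := by
      have hcompl := Finset.card_add_card_compl (f g).support
      rw [hΩ] at hcompl
      have hset : (f g).supportᶜ = insert A (Finset.univ.filter fun D => D ≠ A ∧ g • D = D) := by
        ext D
        simp only [Finset.mem_compl, Equiv.Perm.mem_support, not_not, Finset.mem_insert, Finset.mem_filter,
          Finset.mem_univ, true_and]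
        show g • D = D ↔ _
        by_cases hD : D = A
        · subst hD; simp [hA]
        · simp [hD]
      rw [hset, Finset.card_insert_of_notMem (by simp)] at hcompl
      letI : Fintype Z := Fintype.ofFinite _
      have hcard : (Finset.univ.filter fun D => D ≠ A ∧ g • D = D).card = Nat.card Z := by
        rw [Nat.card_eq_fintype_card, ← Fintype.card_subtype]
        refine (Fintype.card_congr (Equiv.ofBijective
          (fun u : Z => (⟨(u.1 : G) • B, fun e => hAB (MulAction.injective (u.1 : G)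
            ((Sylow.smul_eq_iff_mem_normalizer.2 (Subgroup.le_normalizer u.1.2)).trans e.symm)),
            (hfix u.1).2 u.2⟩ : {D // D ≠ A ∧ g • D = D})) ⟨fun u v e => ?_, fun D => ?_⟩)).symm
        · have e' : (u.1 : G) • B = (v.1 : G) • B := congrArg Subtype.val e
          exact Subtype.ext ((horb A B hAB).1 (Subtype.ext e'))
        · obtain ⟨u, hu⟩ := (horb A B hAB).2 ⟨D.1, D.2.1⟩
          have hu' : (u : G) • B = D.1 := congrArg Subtype.val hu
          exact ⟨⟨u, (hfix u).1 (by rw [hu', D.2.2])⟩, Subtype.ext hu'⟩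
      omega
    rcases hZ with hZ | hZ
    · obtain ⟨j, hj⟩ := hev.1 hσ
      omega
    · have hs0 : (f g).support.card = 0 := by omega
      exact hg1 (hf ((Equiv.Perm.support_eq_empty_iff.1 (Finset.card_eq_zero.1 hs0)).trans (map_one f).symm))
  have hsharp : ∀ g : G, ∀ A B C : Sylow 3 G, A ≠ B → B ≠ C → A ≠ C → g • A = A → g • B = B →
      g • C = C → g = 1 := by
    intro g A B C hAB hBC hAC hA hB hC
    by_contra hg
    have hg4 : g ^ 4 = 1 := by
      have hmem : g ∈ stabilizer G A ⊓ stabilizer G B := ⟨hA, hB⟩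
      have := pow_card_eq_one' (x := (⟨g, hmem⟩ : ↥(stabilizer G A ⊓ stabilizer G B)))
      rw [hH A B hAB] at this
      exact congrArg Subtype.val this
    by_cases hgg : g * g = 1
    · exact hinv g hg hgg A B C hAB hBC hAC hA hB hC
    · exact hinv (g * g) hgg (by rw [← pow_two, ← pow_two, ← pow_mul]; exact hg4) A B C hAB hBC hAC
        (by rw [mul_smul, hA, hA]) (by rw [mul_smul, hB, hB]) (by rw [mul_smul, hC, hC])
  obtain ⟨a, b, hab⟩ := Fintype.exists_pair_of_one_lt_card (α := Sylow 3 G) (by omega)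
  have hZ : Cfsg.IsZassenhausGroup G (Sylow 3 G) := by
    refine ⟨inferInstance, htwo, hsharp, ?_, fun M hM htr => ?_⟩
    · haveI : Nontrivial ↥(stabilizer G a ⊓ stabilizer G b) :=
        Finite.one_lt_card_iff_nontrivial.1 (by rw [hH a b hab]; norm_num)
      obtain ⟨⟨x, hx⟩, hx1⟩ := exists_ne (1 : ↥(stabilizer G a ⊓ stabilizer G b))
      exact ⟨x, fun e => hx1 (Subtype.ext e), a, b, hab, hx.1, hx.2⟩
    · rcases hM.eq_bot_or_eq_top with rfl | rfl
      · exfalso
        obtain ⟨⟨x, hx⟩, hxab⟩ := htr.exists_smul_eq a b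
        rw [Subgroup.mem_bot] at hx
        exact hab (by rw [← hxab]; subst hx; exact (one_smul _ _).symm)
      · refine ⟨a, fun e => ?_⟩
        have h1 : (⊤ : Subgroup G) ⊓ stabilizer G a = ⊥ := by
          rw [eq_bot_iff]
          intro x hx
          have hm : (⟨x, hx.1⟩ : (⊤ : Subgroup G)) ∈ stabilizer (⊤ : Subgroup G) a := hx.2
          rw [e, Subgroup.mem_bot] at hm
          exact congrArg Subtype.val hm
        rw [top_inf_eq] at h1
        have h4 := hH a b hab
        rw [h1, bot_inf_eq, Subgroup.card_bot] at h4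
        omega
  have hK : Zass.IsKernel (a : Subgroup G) a b :=
  { ne := hab
    le := fun u hu => Sylow.smul_eq_iff_mem_normalizer.2 (Subgroup.le_normalizer hu)
    conj := fun g hg u hu => (Subgroup.mem_normalizer_iff.1 (Sylow.smul_eq_iff_mem_normalizer.1 hg) u).1 hu
    reg := fun y hy => by
      obtain ⟨s, hs⟩ := (horb a b hab).2 ⟨y, hy⟩
      exact ⟨s, congrArg Subtype.val hs, fun s' hs' => (horb a b hab).1 (Subtype.ext
        (hs'.trans (congrArg Subtype.val hs).symm))⟩ }
  obtain ⟨p, r, K, _, _, -, -, -, hp, hKc, -, ⟨i⟩⟩ := Zass.psl_of_half hZ hK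
    (IsPGroup.isMulCommutative_of_card_eq_prime_sq (p := 3) (by rw [hR a]; rfl)) (by rw [hR a, hH a b hab])
  have hK9 : Fintype.card K = 9 := by rw [hKc, ← hp, hR a]
  obtain ⟨j⟩ := psl_congr_card (K := K) (K' := F) (hK9.trans hF.symm)
  exact ⟨i.trans j⟩

end Cfsg.Agent.Lib.PSLTwo
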