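import Cfsg.Agent.S0732
import Cfsg.Agent.Lib.PSLTwo.Tools
import Cfsg.Agent.Lib.SmallSimple.Basic

/-!
Recognition of `PSL(2,p)` among simple groups of order `(p+1) p (p-1) / 2` with `p + 1` Sylow
`p`-subgroups, via the classification of transitive groups of degree `p + 1`.
-/

set_option autoImplicit false

namespace Cfsg.Agent.Lib.PSLTwo

open MulAction

/-- The linear part `x ↦ σ x - σ 0` of a semiaffine permutation. -/
def semiLinearPart {K : Type*} [Field K] :
    Cfsg.semiaffineGroup K →* Equiv.Perm K where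
  toFun σ := (σ : Equiv.Perm K).trans (Equiv.subRight ((σ : Equiv.Perm K) 0))
  map_one' := by ext x; simp
  map_mul' σ τ := by
    obtain ⟨a, b, φ, hσ⟩ := σ.2
    ext x
    simp [hσ, mul_sub]

theorem semiLinearPart_apply {K : Type*} [Field K] (σ : Cfsg.semiaffineGroup K) (x : K) :
    semiLinearPart σ x = (σ : Equiv.Perm K) x - (σ : Equiv.Perm K) 0 := rfl

/-- A nonabelian simple group of semiaffine maps of a field is no bigger than `Kˣ × Aut K`. -/
theorem card_le_of_semiaffine {G K : Type*} [Group G] [IsSimpleGroup G] [Field K] [Finite K]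
    (hG : ¬ IsMulCommutative G) (f : G →* Cfsg.semiaffineGroup K) (hf : Function.Injective f) :
    Nat.card G ≤ Nat.card Kˣ * Nat.card (K ≃+* K) := by
  classical
  haveI : Finite (K ≃+* K) := Finite.of_injective _ (DFunLike.coe_injective (F := K ≃+* K))
  let L : G →* Equiv.Perm K := semiLinearPart.comp f
  rcases (inferInstance : L.ker.Normal).eq_bot_or_eq_top with hb | ht
  · have hdat : ∀ g : G, ∃ a : Kˣ, ∃ φ : K ≃+* K, ∀ x, L g x = (a : K) * φ x := fun g => by
      obtain ⟨a, b, φ, h⟩ := (f g).2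
      exact ⟨a, φ, fun x => by simp [L, semiLinearPart_apply, h]⟩
    choose a φ haφ using hdat
    rw [← Nat.card_prod]
    refine Nat.card_le_card_of_injective (fun g => (a g, φ g)) fun g g' e => ?_
    simp only [Prod.mk.injEq] at e
    exact (MonoidHom.ker_eq_bot_iff L).1 hb (Equiv.ext fun x => by rw [haφ, haφ, e.1, e.2])
  · refine absurd ⟨⟨fun g g' => hf (Subtype.ext (Equiv.ext fun x => ?_))⟩⟩ hG
    have htr : ∀ g : G, ∀ y, (f g : Equiv.Perm K) y = y + (f g : Equiv.Perm K) 0 := fun g y => by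
      have h : L g = 1 := (L.mem_ker).1 (ht ▸ Subgroup.mem_top g)
      have h' := congrArg (fun σ : Equiv.Perm K => σ y) h
      simp only [L, MonoidHom.comp_apply, semiLinearPart_apply, Equiv.Perm.one_apply] at h'
      linear_combination h'
    simp only [map_mul, Subgroup.coe_mul, Equiv.Perm.mul_apply]
    rw [htr g ((f g' : Equiv.Perm K) x), htr g' ((f g : Equiv.Perm K) x), htr g x, htr g' x]
    ring

theorem card_aut_galoisField_le (q : ℕ) (hq : q ≠ 0) :
    Nat.card (GaloisField 2 q ≃+* GaloisField 2 q) ≤ q := by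
  have h := Zass.dvd_finrank_of_aut (K := GaloisField 2 q)
    (MonoidHom.id (GaloisField 2 q ≃+* GaloisField 2 q)) fun _ _ e => e
  rw [GaloisField.finrank 2 hq] at h
  exact Nat.le_of_dvd (Nat.pos_of_ne_zero hq) h

/-- A simple group of order `(p+1) p d`, `2 d = p - 1`, with `p + 1` Sylow `p`-subgroups, is
`PSL(2,p)`. -/
theorem iso_psl_of_sylow {G : Type*} [Group G] [Finite G] [IsSimpleGroup G] {p d : ℕ}
    [Fact p.Prime] (hp5 : 5 ≤ p) (hd : 2 * d = p - 1) (hG : Nat.card G = (p + 1) * p * d)
    (hn : Nat.card (Sylow p G) = p + 1) :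
    Nonempty (G ≃* Matrix.ProjectiveSpecialLinearGroup (Fin 2) (ZMod p)) := by
  classical
  have hp : p.Prime := Fact.out
  have hncomm : ¬ IsMulCommutative G := SmallSimple.not_isMulCommutative_of_card fun h => by
    rw [hG] at h
    rcases h.eq_one_or_self_of_dvd p (dvd_mul_of_dvd_left (dvd_mul_left p (p + 1)) d) with h' | h'
    · omega
    · have h1 : 1 < (p + 1) * d :=
        lt_of_lt_of_le (by omega) (Nat.le_mul_of_pos_right (p + 1) (show 0 < d by omega))
      nlinarith
  letI : Fintype (Sylow p G) := Fintype.ofFinite _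
  let f : G →* Equiv.Perm (Sylow p G) := MulAction.toPermHom G (Sylow p G)
  have hf : Function.Injective f := by
    rw [← MonoidHom.ker_eq_bot_iff]
    refine ((inferInstance : f.ker.Normal).eq_bot_or_eq_top).resolve_right fun ht => ?_
    have h1 : Subsingleton (Sylow p G) := ⟨fun P Q => by
      obtain ⟨g, hg⟩ := MulAction.exists_smul_eq G P Q
      have hg1 : f g = 1 := (f.mem_ker).1 (ht ▸ Subgroup.mem_top g)
      rw [← hg]
      exact (congrArg (fun σ : Equiv.Perm (Sylow p G) => σ P) hg1).symm⟩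
    have := Finite.card_le_one_iff_subsingleton.2 h1
    omega
  let e : G ≃* f.range := MonoidHom.ofInjective hf
  haveI : MulAction.IsPretransitive f.range (Sylow p G) := ⟨fun P Q => by
    obtain ⟨g, hg⟩ := MulAction.exists_smul_eq G P Q
    exact ⟨⟨f g, g, rfl⟩, hg⟩⟩
  have hα : Fintype.card (Sylow p G) = p + 1 := by rw [← Nat.card_eq_fintype_card, hn]
  rcases Cfsg.Agent.S0732.result hp hα f.range (by rw [← Nat.card_congr e.toEquiv, hG])
    (show d < p by omega) with ⟨h, -⟩ | ⟨-, ⟨i⟩⟩ | ⟨q, hq, hpq, hdq, ε, hε⟩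
  · omega
  · exact ⟨e.trans i⟩
  · exfalso
    let j : G →* Cfsg.semiaffineGroup (GaloisField 2 q) :=
      ((ε.permCongrHom.toMonoidHom.comp f.range.subtype).comp e.toMonoidHom).codRestrict _
        fun g => hε (e g)
    have hj : Function.Injective j := fun g g' hgg => e.injective (Subtype.ext
      (ε.permCongrHom.injective (congrArg Subtype.val hgg)))
    have hle := card_le_of_semiaffine hncomm j hj
    have haut := card_aut_galoisField_le q hq.ne_zero
    rw [Nat.card_units, GaloisField.card 2 q hq.ne_zero, ← hpq, Nat.add_sub_cancel, hG] at hle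
    have h3 : (p + 1) * p * d ≤ p * q := hle.trans (Nat.mul_le_mul_left p haut)
    have h4 : q ≤ p + 1 := hpq ▸ (Nat.lt_two_pow_self (n := q)).le
    have hd2 : 2 ≤ d := by omega
    have h5 : (p + 1) * p * 2 ≤ p * (p + 1) :=
      (Nat.mul_le_mul_left _ hd2).trans (h3.trans (Nat.mul_le_mul_left p h4))
    nlinarith

/-- Transfer along `|F| = p`. -/
theorem iso_psl_of_sylow' {G : Type*} [Group G] [Finite G] [IsSimpleGroup G] {p d m : ℕ}
    [Fact p.Prime] (hp5 : 5 ≤ p) (hd : 2 * d = p - 1) (hm : (p + 1) * d = m)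
    (hG : Nat.card G = p * m)
    (hnum : ∀ n, n ∣ m → n % p = 1 → n = 1 ∨ n = p + 1)
    {F : Type*} [Field F] [Fintype F] (hF : Fintype.card F = p) :
    Nonempty (G ≃* Matrix.ProjectiveSpecialLinearGroup (Fin 2) F) := by
  classical
  have hp : p.Prime := Fact.out
  have hG' : Nat.card G = (p + 1) * p * d := by rw [hG, ← hm]; ring
  have hd0 : 0 < d := by omega
  have hncomm : ¬ IsMulCommutative G := SmallSimple.not_isMulCommutative_of_card fun h => by
    rw [hG] at h
    rcases h.eq_one_or_self_of_dvd p (dvd_mul_right p m) with h' | h'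
    · omega
    · have h1 : 1 < m := by rw [← hm]; nlinarith
      nlinarith
  obtain ⟨P⟩ : Nonempty (Sylow p G) := inferInstance
  have hpm : ¬ p ∣ m := by
    rw [← hm, hp.dvd_mul]
    rintro (h | h)
    · rw [Nat.dvd_add_right dvd_rfl, Nat.dvd_one] at h; omega
    · have := Nat.le_of_dvd hd0 h; omega
  have hP : Nat.card (P : Subgroup G) = p := by
    simpa using SmallSimple.card_sylow_subgroup P (k := 1) (m := m) (by rw [hG, pow_one]) hpm
  obtain ⟨h1, h2, -⟩ := SmallSimple.card_sylow_facts (p := p) hncomm (hG ▸ dvd_mul_right p m)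
  have hdvd : Nat.card (Sylow p G) ∣ m := by
    have h' := P.card_dvd_index
    have h'' := (P : Subgroup G).card_mul_index
    rw [hP, hG] at h''
    rwa [Nat.eq_of_mul_eq_mul_left hp.pos h''] at h'
  have hn : Nat.card (Sylow p G) = p + 1 := (hnum _ hdvd h2).resolve_left h1.ne'
  obtain ⟨i⟩ := iso_psl_of_sylow hp5 hd hG' hn
  obtain ⟨j⟩ := psl_congr_card (K := ZMod p) (K' := F) (by rw [ZMod.card, hF])
  exact ⟨i.trans j⟩

end Cfsg.Agent.Lib.PSLTwo
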