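import Cfsg.Agent.Lib.PSLTwo.Copies

/-! Every copy of `A₅` is defined over the prime field with a square root of five. -/

set_option autoImplicit false
set_option linter.unusedSectionVars false
set_option linter.style.haveILetI false
set_option linter.style.longLine false

open Matrix MulAction OnePoint
open scoped MatrixGroups

namespace Cfsg.Agent.Lib.PSLTwo

theorem coords_mem {F : Type*} [Field F] (h2 : (2 : F) ≠ 0) {K : Subfield F} {s : F} (hs : s ^ 2 = 5) (hsK : s ∈ K)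
    {b c d e1 e2 e3 : F} (hb : b ≠ 0) (h1 : e1 * e1 = 1) (h2' : e2 * e2 = 1) (h3 : e3 * e3 = 1) (he1 : e1 ∈ K)
    (he2 : e2 ∈ K) (he3 : e3 ∈ K) (hlin : e1 * b + e2 * c + e3 * d = 0)
    (hq : 3 * b ^ 2 = c ^ 2 + d ^ 2) : c / b ∈ K ∧ d / b ∈ K := by
  set C := c / b with hC
  set D := d / b with hD
  have hc : c = C * b := (div_mul_cancel₀ c hb).symm
  have hd : d = D * b := (div_mul_cancel₀ d hb).symm
  have l1 : e1 + e2 * C + e3 * D = 0 := mul_right_cancel₀ hb (by rw [hc, hd] at hlin; linear_combination hlin)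
  have l2 : 3 = C ^ 2 + D ^ 2 :=
    mul_right_cancel₀ (pow_ne_zero 2 hb) (by rw [hc, hd] at hq; linear_combination hq)
  have key : (2 * C + e1 * e2) ^ 2 = s ^ 2 := by
    rw [hs]
    linear_combination (-2 : F) * l2 + 2 * (e1 + e2 * C - e3 * D) * l1 + (-2) * h1 + (-2 * C ^ 2) * h2' +
      (2 * D ^ 2) * h3 + (e2 * e2) * h1 + h2'
  have hCK : C ∈ K := by
    have : 2 * C + e1 * e2 = s ∨ 2 * C + e1 * e2 = -s := sq_eq_sq_iff_eq_or_eq_neg.mp key
    have h2K : (2 : F) ∈ K := natCast_mem K 2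
    have e : C = (2 * C + e1 * e2 - e1 * e2) / 2 := by field_simp; ring
    rw [e]
    rcases this with h | h <;> rw [h]
    · exact div_mem (sub_mem hsK (mul_mem he1 he2)) h2K
    · exact div_mem (sub_mem (neg_mem hsK) (mul_mem he1 he2)) h2K
  refine ⟨hCK, ?_⟩
  have : D = -e3 * (e1 + e2 * C) := by linear_combination e3 * l1 - D * h3
  rw [this]
  exact mul_mem (neg_mem he3) (add_mem he1 (mul_mem he2 hCK))

variable {F : Type*} [Field F] [Fintype F] [DecidableEq F] {x y : F} (hxy : x ^ 2 + y ^ 2 = -1) (h2 : (2 : F) ≠ 0)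

theorem exists_conj_alt_five {H : Subgroup PGL(2, F)} (h : Nonempty (H ≃* alternatingGroup (Fin 5)))
    {K : Subfield F} (hx : x ∈ K) (hy : y ∈ K) {s : F} (hs : s ^ 2 = 5) (hsK : s ∈ K) :
    ∃ γ : PGL(2, F), qA hxy h2 ≤ H.map (MulAut.conj γ).toMonoidHom ∧
      H.map (MulAut.conj γ).toMonoidHom ≤ subPGL K := by
  have hHL := le_Lsub_of_alt_five h
  obtain ⟨e⟩ := h
  obtain ⟨A, B, W, U, hA2, hB2, hA1, hB1, hAB, hC, hWA, hWB, hU2, hU1, hIU, hWU, hWU1, hUA, hUB, hUC⟩ :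
      ∃ A B W U : alternatingGroup (Fin 5), A * A = 1 ∧ B * B = 1 ∧ A ≠ 1 ∧ B ≠ 1 ∧ A ≠ B ∧ A * B = B * A ∧
        W * A * W⁻¹ = A * B ∧ W * B * W⁻¹ = A ∧ U * U = 1 ∧ U ≠ 1 ∧ (A * U) * (A * U) * (A * U) = 1 ∧
        (W * U) * (W * U) = 1 ∧ W * U ≠ 1 ∧ U ≠ A ∧ U ≠ B ∧ U ≠ A * B :=
    ⟨⟨c[0, 1] * c[2, 3], Equiv.Perm.mem_alternatingGroup.mpr (by decide +kernel)⟩,
      ⟨c[0, 2] * c[1, 3], Equiv.Perm.mem_alternatingGroup.mpr (by decide +kernel)⟩,
      ⟨c[1, 3, 2], Equiv.Perm.mem_alternatingGroup.mpr (by decide +kernel)⟩,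
      ⟨c[0, 4] * c[2, 3], Equiv.Perm.mem_alternatingGroup.mpr (by decide +kernel)⟩,
      by decide +kernel, by decide +kernel, by decide +kernel, by decide +kernel, by decide +kernel, by decide +kernel,
      by decide +kernel, by decide +kernel, by decide +kernel, by decide +kernel, by decide +kernel, by decide +kernel,
      by decide +kernel, by decide +kernel, by decide +kernel, by decide +kernel⟩
  let f0 : alternatingGroup (Fin 5) →* PGL(2, F) := H.subtype.comp e.symm.toMonoidHom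
  have f0mem : ∀ g, f0 g ∈ H := fun g => (e.symm g).2
  have f0inj : Function.Injective f0 := fun g g' h => e.symm.injective (Subtype.ext h)
  have f01 : ∀ g, g ≠ 1 → f0 g ≠ 1 := fun g hg h => hg (f0inj (h.trans (map_one f0).symm))
  obtain ⟨γ, hγa, hγb⟩ := klein_conj hxy h2 (hHL (f0mem A)) (hHL (f0mem B))
    (by rw [← map_mul, hA2, map_one]) (by rw [← map_mul, hB2, map_one]) (f01 A hA1) (f01 B hB1)
    (fun h => hAB (f0inj h)) (by rw [← map_mul, ← map_mul, hC])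
  let f : alternatingGroup (Fin 5) →* PGL(2, F) := (MulAut.conj γ).toMonoidHom.comp f0
  have fA : f A = qI hxy := hγa
  have fB : f B = qJ hxy := hγb
  set X := H.map (MulAut.conj γ).toMonoidHom with hX
  have fmem : ∀ g, f g ∈ X := fun g => Subgroup.mem_map_of_mem _ (f0mem g)
  have finj : Function.Injective f := fun g g' h => f0inj ((MulAut.conj γ).injective h)
  have fC : f (A * B) = qK hxy := by rw [map_mul, fA, fB, qI_mul_qJ]
  have hV : qV hxy ≤ X := by
    rintro g (rfl | rfl | rfl | rfl)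
    · exact one_mem _
    · exact fA ▸ fmem A
    · exact fB ▸ fmem B
    · exact fC ▸ fmem _
  have w1 : qW hxy h2 * qI hxy * (qW hxy h2)⁻¹ = qK hxy := by rw [qW_conj_qI, mul_inv_cancel_right]
  have w2 : qW hxy h2 * qJ hxy * (qW hxy h2)⁻¹ = qI hxy := by rw [qW_conj_qJ, mul_inv_cancel_right]
  have w1' : f W * qI hxy * (f W)⁻¹ = qK hxy := by rw [← fA, ← map_inv, ← map_mul, ← map_mul, hWA, fC]
  have w2' : f W * qJ hxy * (f W)⁻¹ = qI hxy := by rw [← fB, ← map_inv, ← map_mul, ← map_mul, hWB, fA]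
  have hu : (qW hxy h2)⁻¹ * f W ∈ qV hxy := by
    refine centralizer_qV hxy h2 fun v hv => ?_
    have k : ∀ a b : PGL(2, F), qW hxy h2 * a * (qW hxy h2)⁻¹ = b → f W * a * (f W)⁻¹ = b →
        (qW hxy h2)⁻¹ * f W * a = a * ((qW hxy h2)⁻¹ * f W) := fun a b ha hb => by
      have h1 : f W * a = b * f W := by rw [← hb, inv_mul_cancel_right]
      rw [mul_assoc, h1, ← ha]; group
    rcases hv with rfl | rfl | rfl | rfl
    · rw [one_mul, mul_one]
    · exact k _ _ w1 w1'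
    · exact k _ _ w2 w2'
    · rw [← qI_mul_qJ, ← mul_assoc, k _ _ w1 w1', mul_assoc, k _ _ w2 w2', mul_assoc]
  have hqA : qA hxy h2 ≤ X := by
    refine sup_le hV (Subgroup.zpowers_le.mpr ?_)
    have := mul_mem (fmem W) (inv_mem (hV hu))
    rwa [show f W * ((qW hxy h2)⁻¹ * f W)⁻¹ = qW hxy h2 by group] at this
  refine ⟨γ, hqA, ?_⟩
  -- the extra involution
  obtain ⟨a, b, c, d, hN, hUe⟩ := exists_qel hxy h2 (f U)
  have hUv : ¬ (b = 0 ∧ c = 0 ∧ d = 0) := fun h => hU1 (finj (by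
    rw [map_one, hUe]; exact (qel_eq_one hxy _ _ _ _ _ h2).mpr h))
  have ha0 : a = 0 := by
    have h1 : f U * f U = 1 := by rw [← map_mul, hU2, map_one]
    rw [hUe, qel_mul, qel_eq_one hxy _ _ _ _ _ h2] at h1
    obtain ⟨e1, e2, e3⟩ := h1
    by_contra ha
    have k : ∀ t : F, 2 * (a * t) = 0 → t = 0 := fun t ht =>
      (mul_eq_zero.mp ((mul_eq_zero.mp ht).resolve_left h2)).resolve_left ha
    exact hUv ⟨k b (by linear_combination e1), k c (by linear_combination e2), k d (by linear_combination e3)⟩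
  subst ha0
  have hq : 3 * b ^ 2 = c ^ 2 + d ^ 2 := by
    have h1 : f A * f U * (f A * f U) * (f A * f U) = 1 := by
      rw [← map_mul, ← map_mul, ← map_mul, hIU, map_one]
    rw [fA, qI, hUe, qel_mul, qel_mul, qel_mul, qel_eq_one hxy _ _ _ _ _ h2] at h1
    obtain ⟨-, e2, e3⟩ := h1
    by_contra hne
    have hne' : 3 * b ^ 2 - (c ^ 2 + d ^ 2) ≠ 0 := sub_ne_zero.mpr hne
    have hc0 : c = 0 := (mul_eq_zero.mp (show (3 * b ^ 2 - (c ^ 2 + d ^ 2)) * c = 0 by
      linear_combination e3)).resolve_left hne'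
    have hd0 : d = 0 := (mul_eq_zero.mp (show (3 * b ^ 2 - (c ^ 2 + d ^ 2)) * d = 0 by
      linear_combination -e2)).resolve_left hne'
    refine hUA (finj ?_)
    rw [fA, qI, hUe]
    have hb0 : b ≠ 0 := fun h => hUv ⟨h, hc0, hd0⟩
    exact qel_scale hxy _ _ b⁻¹ (inv_ne_zero hb0) (by ring) (inv_mul_cancel₀ hb0).symm
      (by rw [hc0]; ring) (by rw [hd0]; ring)
  have hb : b ≠ 0 := by
    intro hb
    refine hN ?_
    rw [hb] at hq ⊢
    linear_combination -hq
  obtain ⟨e1, e2, e3, hWe, s1, s2, s3, hk1, hk2, hk3⟩ : ∃ (e1 e2 e3 : F),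
      (∃ h, f W = qel hxy (-1) e1 e2 e3 h) ∧ e1 * e1 = 1 ∧ e2 * e2 = 1 ∧ e3 * e3 = 1 ∧
        e1 ∈ K ∧ e2 ∈ K ∧ e3 ∈ K := by
    have p1 := one_mem K
    have m1 : (-1 : F) ∈ K := neg_mem p1
    have h4 : (-1 : F) ^ 2 + 1 ^ 2 + 1 ^ 2 + 1 ^ 2 ≠ 0 := by have := four_ne h2; norm_num; exact this
    have hW : f W = qW hxy h2 * ((qW hxy h2)⁻¹ * f W) := by rw [mul_inv_cancel_left]
    rcases hu with hu | hu | hu | hu <;> rw [hu] at hW
    · exact ⟨1, 1, 1, ⟨h4, by rw [hW, mul_one]; rfl⟩, by ring, by ring, by ring, p1, p1, p1⟩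
    · refine ⟨-1, 1, -1, ⟨by simpa using h4, ?_⟩, by ring, by ring, by ring, m1, p1, m1⟩
      rw [hW, qW, qI, qel_mul]; exact qel_scale hxy _ _ 1 one_ne_zero (by ring) (by ring) (by ring) (by ring)
    · refine ⟨-1, -1, 1, ⟨by simpa using h4, ?_⟩, by ring, by ring, by ring, m1, m1, p1⟩
      rw [hW, qW, qJ, qel_mul]; exact qel_scale hxy _ _ 1 one_ne_zero (by ring) (by ring) (by ring) (by ring)
    · refine ⟨1, -1, -1, ⟨by simpa using h4, ?_⟩, by ring, by ring, by ring, p1, m1, m1⟩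
      rw [hW, qW, qK, qel_mul]; exact qel_scale hxy _ _ 1 one_ne_zero (by ring) (by ring) (by ring) (by ring)
  obtain ⟨hWh, hWe⟩ := hWe
  have hlin : e1 * b + e2 * c + e3 * d = 0 := by
    have h1 : f W * f U * (f W * f U) = 1 := by rw [← map_mul, ← map_mul, hWU, map_one]
    rw [hWe, hUe, qel_mul, qel_mul, qel_eq_one hxy _ _ _ _ _ h2] at h1
    obtain ⟨v1, v2, v3⟩ := h1
    by_contra hne
    have k : ∀ t : F, 2 * ((e1 * b + e2 * c + e3 * d) * t) = 0 → t = 0 := fun t ht =>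
      (mul_eq_zero.mp ((mul_eq_zero.mp ht).resolve_left h2)).resolve_left hne
    refine hWU1 (finj ?_)
    rw [map_mul, map_one, hWe, hUe, qel_mul, qel_eq_one hxy _ _ _ _ _ h2]
    exact ⟨k _ (by linear_combination -v1), k _ (by linear_combination -v2), k _ (by linear_combination -v3)⟩
  obtain ⟨hcK, hdK⟩ := coords_mem h2 hs hsK hb s1 s2 s3 hk1 hk2 hk3 hlin hq
  have hUK : f U ∈ subPGL K := by
    have hn' : (0 : F) ^ 2 + 1 ^ 2 + (c / b) ^ 2 + (d / b) ^ 2 ≠ 0 := by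
      intro h0
      refine hN ?_
      field_simp at h0
      linear_combination h0
    rw [hUe, qel_scale hxy hN hn' b⁻¹ (inv_ne_zero hb) (by ring) (inv_mul_cancel₀ hb).symm
      (by ring) (by ring)]
    exact qel_mem_subPGL hxy hx hy (zero_mem K) (one_mem K) hcK hdK _
  have hUnA : f U ∉ qA hxy h2 := fun hmem => by
    rcases mem_qV_of_sq hxy h2 hmem (by rw [← map_mul, hU2, map_one]) with h | h | h | h
    · exact hU1 (finj (h.trans (map_one f).symm))
    · exact hUA (finj (h.trans fA.symm))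
    · exact hUB (finj (h.trans fB.symm))
    · exact hUC (finj (h.trans fC.symm))
  have h60 : Nat.card X = 60 := by
    rw [hX, card_conj_map, Nat.card_congr e.toEquiv, Nat.card_eq_fintype_card]
    decide +kernel
  have hA : qA hxy h2 ≤ X ⊓ subPGL K := le_inf hqA (qA_le_subPGL hxy h2 hx hy)
  obtain ⟨k, hk⟩ := Subgroup.card_dvd_of_le hA
  have hle := Subgroup.card_dvd_of_le (inf_le_left (a := X) (b := subPGL K))
  rw [card_qA hxy h2] at hk
  rw [h60, hk] at hle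
  rcases (Nat.dvd_prime (by norm_num : Nat.Prime 5)).mp
    (Nat.dvd_of_mul_dvd_mul_left (by norm_num : 0 < 12) (show 12 * k ∣ 12 * 5 from hle)) with rfl | rfl
  · have := Subgroup.eq_of_le_of_card_ge hA (le_of_eq (by rw [hk, card_qA hxy h2]))
    exact absurd (this ▸ (⟨fmem U, hUK⟩ : f U ∈ X ⊓ subPGL K)) hUnA
  · exact inf_eq_left.mp (Subgroup.eq_of_le_of_card_ge inf_le_left (le_of_eq (by rw [hk, h60])))

end Cfsg.Agent.Lib.PSLTwo
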