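import Cfsg.Agent.Lib.PSLTwo.LSub
import Cfsg.Agent.Lib.PSLTwo.PolesSylow

/-! Centralisers of elements of `PGL₂(q)` and `PSL₂(q)`, and the class sizes. -/

set_option autoImplicit false
set_option linter.unusedSectionVars false
set_option linter.style.haveILetI false
set_option linter.style.longLine false

open Matrix MulAction OnePoint
open scoped MatrixGroups

namespace Cfsg.Agent.Lib.PSLTwo

variable {F E : Type*} [Field F] [Fintype F] [DecidableEq F] [Field E] [DecidableEq E] [Finite E]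
  [Algebra F E] {p : ℕ} [Fact p.Prime] [CharP F p]
  (hE : Nat.card E = Fintype.card F ^ 2)

/-- A maximal torus with its centraliser property. -/
structure IsTorusSub (T : Subgroup PGL(2, F)) (n : ℕ) : Prop where
  card : Nat.card T = n
  cyc : IsCyclic T
  notL : Odd (Fintype.card F) → ∃ t ∈ T, t ∉ Lsub F
  cent : ∀ g ∈ T, g ≠ 1 → (g * g ≠ 1 → Subgroup.centralizer {g} = T) ∧
    (g * g = 1 → T ≤ Subgroup.centralizer {g} ∧ Nat.card (Subgroup.centralizer {g}) = 2 * n)
  swap : ∀ g ∈ T, g ≠ 1 → ∀ h ∈ Subgroup.centralizer {g}, h ∉ T →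
    h * h = 1 ∧ ∀ z ∈ T, h * z * h = z⁻¹

include hE

theorem isTorusSub_pair {x y : OnePoint E} (hxy : x ≠ y) {n : ℕ}
    (hn : Nat.card (stabilizer PGL(2, F) x ⊓ stabilizer PGL(2, F) y : Subgroup PGL(2, F)) = n)
    {s : PGL(2, F)} (hs : s • x = y ∧ s • y = x)
    (hL : Odd (Fintype.card F) → ∃ t ∈ stabilizer PGL(2, F) x ⊓ stabilizer PGL(2, F) y, t ∉ Lsub F) :
    IsTorusSub (stabilizer PGL(2, F) x ⊓ stabilizer PGL(2, F) y) n := by
  obtain ⟨p, hpc⟩ := CharP.exists F
  haveI : Fact p.Prime := ⟨CharP.char_is_prime F p⟩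
  have P := poles (E := E) (p := p) hE
  set T := stabilizer PGL(2, F) x ⊓ stabilizer PGL(2, F) y with hT
  have hcyc : IsCyclic T := P.cyc x y hxy
  refine ⟨hn, hcyc, hL, fun g hg hg1 => ?_, fun g hg hg1 h hh hhT => ?_⟩
  · haveI := hcyc
    have hcomm : ∀ a ∈ T, ∀ b ∈ T, a * b = b * a := fun a ha b hb => by
      obtain ⟨c, hc⟩ := IsCyclic.exists_generator (α := T)
      obtain ⟨i, hi⟩ := Subgroup.mem_zpowers_iff.mp (hc ⟨a, ha⟩)
      obtain ⟨j, hj⟩ := Subgroup.mem_zpowers_iff.mp (hc ⟨b, hb⟩)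
      have := congrArg (fun z : T => (z : PGL(2, F))) ((Commute.zpow_zpow_self c i j).eq)
      rwa [hi, hj] at this
    have hle : T ≤ Subgroup.centralizer {g} := fun h hh =>
      Subgroup.mem_centralizer_singleton_iff.mpr (hcomm h hh g hg)
    have hperm : ∀ h ∈ Subgroup.centralizer {g}, h ∈ T ∨ (h • x = y ∧ h • y = x) := by
      intro h hh
      have e : h * g = g * h := Subgroup.mem_centralizer_singleton_iff.mp hh
      have h1 : g • (h • x) = h • x := by rw [← mul_smul, ← e, mul_smul, hg.1]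
      have h2 : g • (h • y) = h • y := by rw [← mul_smul, ← e, mul_smul, hg.2]
      rcases P.pair_inj hg1 hxy hg.1 hg.2 h1 with a | a <;>
        rcases P.pair_inj hg1 hxy hg.1 hg.2 h2 with b | b
      · exact absurd ((smul_left_cancel_iff h).mp (a.trans b.symm)) hxy
      · exact Or.inl ⟨a, b⟩
      · exact Or.inr ⟨a, b⟩
      · exact absurd ((smul_left_cancel_iff h).mp (a.trans b.symm)) hxy
    -- a swapping element inverts the torus
    have hinv : ∀ h : PGL(2, F), h • x = y → h • y = x → h * g * h = g⁻¹ := by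
      intro h a b
      have := P.swap_sq (g := g * h) hxy (by rw [mul_smul, a, hg.2]) (by rw [mul_smul, b, hg.1])
      apply eq_inv_of_mul_eq_one_right
      simpa [mul_assoc] using this
    refine ⟨fun hgg => le_antisymm (fun h hh => ?_) hle, fun hgg => ⟨hle, ?_⟩⟩
    · refine (hperm h hh).resolve_right fun ⟨a, b⟩ => hgg ?_
      have e : h * g = g * h := Subgroup.mem_centralizer_singleton_iff.mp hh
      have := hinv h a b
      rw [e, mul_assoc, P.swap_sq hxy a b, mul_one] at this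
      exact mul_eq_one_iff_eq_inv.mpr this
    · have hsC : s ∈ Subgroup.centralizer {g} := by
        refine Subgroup.mem_centralizer_singleton_iff.mpr ?_
        have := hinv s hs.1 hs.2
        rw [show g⁻¹ = g from (mul_eq_one_iff_eq_inv.mp hgg).symm] at this
        have hss : s * s = 1 := P.swap_sq hxy hs.1 hs.2
        calc s * g = s * g * (s * s) := by rw [hss, mul_one]
          _ = g * s := by rw [← mul_assoc, this]
      have hidx : (T.subgroupOf (Subgroup.centralizer {g})).index = 2 := by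
        rw [Subgroup.index_eq_two_iff]
        refine ⟨⟨s, hsC⟩, fun b => ?_⟩
        simp only [Subgroup.mem_subgroupOf, Subgroup.coe_mul]
        rcases hperm b b.2 with hb | ⟨a, c⟩
        · refine Or.inr ⟨hb, fun hbs => hxy ?_⟩
          have h1 : ((b : PGL(2, F)) * s) • x = x := hbs.1
          rw [mul_smul, hs.1, hb.2] at h1
          exact h1.symm
        · refine Or.inl ⟨⟨?_, ?_⟩, fun hb => hxy ?_⟩
          · show ((b : PGL(2, F)) * s) • x = x
            rw [mul_smul, hs.1, c]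
          · show ((b : PGL(2, F)) * s) • y = y
            rw [mul_smul, hs.2, a]
          · exact (mem_stabilizer_iff.mp hb.1).symm.trans a
      have h1 := Subgroup.card_mul_index (T.subgroupOf (Subgroup.centralizer {g}))
      rw [hidx, Nat.card_congr (Subgroup.subgroupOfEquivOfLe hle).toEquiv, hn] at h1
      omega
  · have e : h * g = g * h := Subgroup.mem_centralizer_singleton_iff.mp hh
    have h1 : g • (h • x) = h • x := by rw [← mul_smul, ← e, mul_smul, hg.1]
    have h2 : g • (h • y) = h • y := by rw [← mul_smul, ← e, mul_smul, hg.2]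
    rcases P.pair_inj hg1 hxy hg.1 hg.2 h1 with u | u <;>
      rcases P.pair_inj hg1 hxy hg.1 hg.2 h2 with v | v
    · exact absurd ((smul_left_cancel_iff h).mp (u.trans v.symm)) hxy
    · exact absurd ⟨u, v⟩ hhT
    · refine ⟨P.swap_sq hxy u v, fun z hz => ?_⟩
      have := P.swap_sq (g := z * h) hxy (by rw [mul_smul, u, hz.2]) (by rw [mul_smul, v, hz.1])
      apply eq_inv_of_mul_eq_one_right
      simpa [mul_assoc] using this
    · exact absurd ((smul_left_cancel_iff h).mp (u.trans v.symm)) hxy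

theorem isTorusSub_split {a b : OnePoint F} (hab : a ≠ b) :
    IsTorusSub (stabilizer PGL(2, F) (inc E a) ⊓ stabilizer PGL(2, F) (inc E b)) (Fintype.card F - 1) := by
  obtain ⟨s, hs1, hs2⟩ := exists_pgl_map hab hab.symm
  refine isTorusSub_pair hE (fun h => hab (inc_injective h)) ?_
    (s := s) ⟨by rw [← inc_smul, hs1], by rw [← inc_smul, hs2]⟩ fun hodd => ?_
  · rw [stab_inc, stab_inc, card_stab_pair hab]
  · obtain ⟨t, ht1, ht2, ht⟩ := exists_not_mem_stab_pair hodd hab
    exact ⟨t, Subgroup.mem_inf.mpr ⟨by rw [stab_inc]; exact ht1, by rw [stab_inc]; exact ht2⟩, ht⟩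

theorem isTorusSub_nonsplit {x : OnePoint E} (hx : ¬ IsRat F x) :
    ∃ T : Subgroup PGL(2, F), stabilizer PGL(2, F) x = T ∧ IsTorusSub T (Fintype.card F + 1) := by
  obtain ⟨y, hyx, hy, hst⟩ := exists_partner hE hx
  obtain ⟨s, hs⟩ := exists_swap_nonrat hE hx hy hyx hst
  refine ⟨stabilizer PGL(2, F) x ⊓ stabilizer PGL(2, F) y, by rw [← hst, inf_idem],
    isTorusSub_pair hE hyx.symm ?_ hs fun hodd => ?_⟩
  · rw [← hst, inf_idem, card_stab_nonrat hE hx]
  · obtain ⟨t, ht1, ht⟩ := exists_not_mem_stab_nonrat hE hodd hx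
    exact ⟨t, Subgroup.mem_inf.mpr ⟨ht1, hst ▸ mem_stabilizer_iff.mpr ht1⟩, ht⟩

theorem card_unip (a : OnePoint F) :
    Nat.card ((poles (E := E) (p := p) hE).unip (inc E a)) = Fintype.card F := by
  have P := poles (E := E) (p := p) hE
  obtain ⟨k, hp, hk⟩ := FiniteField.card F p
  have hk0 : (k : ℕ) ≠ 0 := k.pos.ne'
  have hdvd : p ∣ Nat.card PGL(2, F) := by
    rw [card_pgl, hk]; exact dvd_mul_of_dvd_left (dvd_pow_self p hk0) _
  obtain ⟨x₀, S, hS⟩ := P.exists_sylow_point hdvd
  have hcardS : Nat.card (P.unip x₀) = Fintype.card F := by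
    rw [← hS, Sylow.card_eq_multiplicity, card_pgl, hk]
    have h2 : ((p : ℕ) ^ (k : ℕ)) ^ 2 - 1 ≠ 0 := by
      have : 2 ≤ p ^ (k : ℕ) := hk ▸ two_le_card (F := F)
      have : 4 ≤ (p ^ (k : ℕ)) ^ 2 := by nlinarith
      omega
    have hnd : ¬ p ∣ (p ^ (k : ℕ)) ^ 2 - 1 := fun hd => by
      have h3 : p ∣ (p ^ (k : ℕ)) ^ 2 := dvd_pow (dvd_pow_self p hk0) two_ne_zero
      have : p ∣ 1 := by
        have := Nat.dvd_sub h3 hd
        rwa [Nat.sub_sub_self (Nat.one_le_iff_ne_zero.mpr (pow_ne_zero 2 (pow_ne_zero _ hp.ne_zero)))] at this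
      exact hp.not_dvd_one this
    rw [Nat.factorization_mul (pow_ne_zero _ hp.ne_zero) h2, hp.factorization_pow]
    simp [Nat.factorization_eq_zero_of_not_dvd hnd]
  obtain ⟨⟨u, hu⟩, hu1⟩ : ∃ u : P.unip x₀, u ≠ 1 := by
    haveI : Nontrivial (P.unip x₀) :=
      Finite.one_lt_card_iff_nontrivial.mp (by rw [hcardS]; exact Fintype.one_lt_card)
    exact exists_ne 1
  obtain ⟨b, hb⟩ := pElem_isRat hE (fun h => hu1 (Subtype.ext h)) hu.2 hu.1
  obtain ⟨g, hg⟩ : ∃ g : PGL(2, F), g • b = a := by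
    obtain ⟨c, hc⟩ : ∃ c : OnePoint F, c ≠ b := by
      haveI : Nontrivial (OnePoint F) := ⟨⟨∞, ((0 : F) : OnePoint F), OnePoint.infty_ne_coe 0⟩⟩
      exact exists_ne b
    by_cases hba : b = a
    · exact ⟨1, by rw [one_smul, hba]⟩
    · obtain ⟨g, hg, -⟩ := exists_pgl_map (Ne.symm hc) (x' := a) (y' := b) (Ne.symm hba)
      exact ⟨g, hg⟩
  rw [← hg, inc_smul, hb, P.card_unip_smul, hcardS]

theorem kinds {g : PGL(2, F)} (hg : g ≠ 1) :
    (g ^ p = 1 ∧ Nat.card (Subgroup.centralizer {g}) = Fintype.card F ∧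
        ∀ h ∈ Subgroup.centralizer {g}, h ^ p = 1) ∨
      ∃ (T : Subgroup PGL(2, F)) (n : ℕ), g ∈ T ∧ IsTorusSub T n ∧
        (n = Fintype.card F - 1 ∨ n = Fintype.card F + 1) := by
  have P := poles (E := E) (p := p) hE
  obtain ⟨x, hx⟩ := P.exists_fix g
  by_cases hgp : g ^ p = 1
  · refine Or.inl ⟨hgp, ?_⟩
    obtain ⟨a, rfl⟩ := pElem_isRat hE hg hgp hx
    have hCU : Subgroup.centralizer {g} = P.unip (inc E a) := by
      refine le_antisymm (fun h hh => ?_) fun h hh =>
        Subgroup.mem_centralizer_singleton_iff.mpr (P.uni h g _ hh.1 hx hh.2 hgp)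
      have e : h * g = g * h := Subgroup.mem_centralizer_singleton_iff.mp hh
      have hfix : h • inc E a = inc E a :=
        P.pElem_fix hg hgp hx (by rw [← mul_smul, ← e, mul_smul, hx])
      refine ⟨hfix, ?_⟩
      by_cases h1 : h = 1
      · rw [h1, one_pow]
      rw [P.pElem h _ h1 hfix]
      intro z hz
      by_contra hne
      have hgz : h • (g • z) = g • z := by rw [← mul_smul, e, mul_smul, hz]
      rcases P.pair_inj h1 (Ne.symm hne) hfix hz hgz with c | c
      · exact hne ((smul_left_cancel_iff g).mp (c.trans hx.symm))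
      · exact hne (P.pElem_fix hg hgp hx c)
    rw [hCU]
    exact ⟨card_unip hE a, fun h hh => hh.2⟩
  · refine Or.inr ?_
    obtain ⟨y, hy, hyx⟩ : ∃ y, g • y = y ∧ y ≠ x := by
      by_contra hno
      push Not at hno
      exact hgp ((P.pElem g x hg hx).mpr hno)
    by_cases hxr : IsRat F x
    · by_cases hyr : IsRat F y
      · obtain ⟨a, rfl⟩ := hxr
        obtain ⟨b, rfl⟩ := hyr
        exact ⟨_, _, Subgroup.mem_inf.mpr ⟨hx, hy⟩,
          isTorusSub_split hE (fun h => hyx (by rw [h])), Or.inl rfl⟩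
      · obtain ⟨T, hT, hT'⟩ := isTorusSub_nonsplit hE hyr
        exact ⟨T, _, hT ▸ mem_stabilizer_iff.mpr hy, hT', Or.inr rfl⟩
    · obtain ⟨T, hT, hT'⟩ := isTorusSub_nonsplit hE hxr
      exact ⟨T, _, hT ▸ mem_stabilizer_iff.mpr hx, hT', Or.inr rfl⟩

theorem exists_torus_minus : ∃ T : Subgroup PGL(2, F), IsTorusSub T (Fintype.card F - 1) :=
  ⟨_, isTorusSub_split hE (OnePoint.infty_ne_coe (0 : F))⟩

theorem exists_torus_plus : ∃ T : Subgroup PGL(2, F), IsTorusSub T (Fintype.card F + 1) := by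
  obtain ⟨x, hx⟩ := exists_nonrat hE
  obtain ⟨T, -, hT⟩ := isTorusSub_nonsplit hE hx
  exact ⟨T, hT⟩

omit hE

/-- Centralisers are abelian, apart from those of involutions in odd characteristic. -/
theorem cent_comm (hE : Nat.card E = Fintype.card F ^ 2) {g : PGL(2, F)} (hg : g ≠ 1)
    (hgg : g * g = 1 → Even (Fintype.card F)) {h k : PGL(2, F)}
    (hh : h ∈ Subgroup.centralizer {g}) (hk : k ∈ Subgroup.centralizer {g}) : h * k = k * h := by
  obtain ⟨p, hpc⟩ := CharP.exists F
  haveI : Fact p.Prime := ⟨CharP.char_is_prime F p⟩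
  have P := poles (E := E) (p := p) hE
  rcases kinds (p := p) hE hg with ⟨hgp, -, hC⟩ | ⟨T, n, hgT, hT, hn⟩
  · obtain ⟨x, hx⟩ := P.exists_fix g
    have hfix : ∀ a ∈ Subgroup.centralizer {g}, a • x = x := fun a ha => by
      have e : a * g = g * a := Subgroup.mem_centralizer_singleton_iff.mp ha
      exact P.pElem_fix hg hgp hx (by rw [← mul_smul, ← e, mul_smul, hx])
    exact P.uni h k x (hfix h hh) (hfix k hk) (hC h hh) (hC k hk)
  · have hgg' : g * g ≠ 1 := fun e => by
      have := Subgroup.orderOf_dvd_natCard _ hgT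
      rw [orderOf_eq_prime (p := 2) (by rw [sq, e]) hg, hT.card] at this
      obtain ⟨i, hi⟩ := hgg e
      have := two_le_card (F := F)
      omega
    rw [(hT.cent g hgT hg).1 hgg'] at hh hk
    haveI := hT.cyc
    letI := IsCyclic.commGroup (α := T)
    exact congrArg Subtype.val (mul_comm (⟨h, hh⟩ : T) ⟨k, hk⟩)

/-- The centraliser in `PSL₂`, seen in `PGL₂`. -/
theorem index_centralizer_psl (g : Matrix.ProjectiveSpecialLinearGroup (Fin 2) F) :
    (Subgroup.centralizer {g}).index *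
        Nat.card (Subgroup.centralizer {(pslEquiv g : PGL(2, F))} ⊓ Lsub F : Subgroup PGL(2, F)) =
      Nat.card (Lsub F) := by
  rw [card_Lsub, ← Subgroup.card_mul_index (Subgroup.centralizer {g}), mul_comm]
  congr 1
  refine Nat.card_congr ⟨fun h => ⟨pslEquiv.symm ⟨h.1, h.2.2⟩, ?_⟩,
    fun h => ⟨pslEquiv (h : Matrix.ProjectiveSpecialLinearGroup (Fin 2) F), ?_, (pslEquiv _).2⟩,
    fun h => ?_, fun h => ?_⟩
  · refine Subgroup.mem_centralizer_singleton_iff.mpr (pslEquiv.injective (Subtype.ext ?_))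
    simp only [map_mul, MulEquiv.apply_symm_apply, Subgroup.coe_mul]
    exact Subgroup.mem_centralizer_singleton_iff.mp h.2.1
  · refine Subgroup.mem_centralizer_singleton_iff.mpr ?_
    rw [← Subgroup.coe_mul, ← map_mul, Subgroup.mem_centralizer_singleton_iff.mp h.2, map_mul, Subgroup.coe_mul]
  · exact Subtype.ext (by simp)
  · exact Subtype.ext (by simp)

end Cfsg.Agent.Lib.PSLTwo
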