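import Cfsg.Agent.Lib.PSLTwo.Centralizers

/-! The conjugacy class sizes of `PSL₂(q)`. -/

set_option autoImplicit false
set_option linter.unusedSectionVars false
set_option linter.style.haveILetI false
set_option linter.style.longLine false

open Matrix MulAction OnePoint
open scoped MatrixGroups

namespace Cfsg.Agent.Lib.PSLTwo

variable {F : Type*} [Field F] [Fintype F] [DecidableEq F]

theorem inf_torus_card {T : Subgroup PGL(2, F)} {n : ℕ} (h : IsTorusSub T n)
    (hodd : Odd (Fintype.card F)) : 2 * Nat.card (T ⊓ Lsub F : Subgroup PGL(2, F)) = n :=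
  (card_inf_Lsub hodd (h.notL hodd)).trans h.card

theorem exists_gen_inf {T : Subgroup PGL(2, F)} {n : ℕ} (h : IsTorusSub T n) :
    ∃ a ∈ T ⊓ Lsub F, orderOf a = Nat.card (T ⊓ Lsub F : Subgroup PGL(2, F)) := by
  haveI := h.cyc
  haveI : IsCyclic (T ⊓ Lsub F : Subgroup PGL(2, F)) :=
    isCyclic_of_injective (Subgroup.inclusion (inf_le_left : T ⊓ Lsub F ≤ T)) (Subgroup.inclusion_injective _)
  obtain ⟨a, ha⟩ := IsCyclic.exists_ofOrder_eq_natCard (α := (T ⊓ Lsub F : Subgroup PGL(2, F)))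
  exact ⟨a, a.2, by rw [Subgroup.orderOf_coe, ha]⟩

theorem mem_Lsub_of_pow (hodd : Odd (Fintype.card F)) (p : ℕ) [hp : Fact p.Prime] [CharP F p] {h : PGL(2, F)}
    (hh : h ^ p = 1) : h ∈ Lsub F := by
  by_contra hL
  have hpo : Odd p := by
    obtain ⟨k, -, hk⟩ := FiniteField.card F p
    rw [hk] at hodd
    exact (Nat.odd_pow_iff k.pos.ne').mp hodd
  obtain ⟨m, hm⟩ := hpo
  have h1 : (h * h) ^ (m + 1) = h := by
    rw [← sq, ← pow_mul, show 2 * (m + 1) = p + 1 by omega, pow_succ, hh, one_mul]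
  exact hL (h1 ▸ pow_mem (mul_mem_Lsub hL hL) _)

/-- The class sizes of `PSL₂` from the centraliser orders. -/
theorem mem_range_iff (k : ℕ) :
    k ∈ Set.range (fun g : Matrix.ProjectiveSpecialLinearGroup (Fin 2) F => (Subgroup.centralizer {g}).index) ↔
      ∃ a ∈ Lsub F, k * Nat.card (Subgroup.centralizer {a} ⊓ Lsub F : Subgroup PGL(2, F)) = Nat.card (Lsub F) := by
  constructor
  · rintro ⟨g, rfl⟩
    exact ⟨_, (pslEquiv g).2, index_centralizer_psl g⟩
  · rintro ⟨a, ha, hk⟩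
    refine ⟨pslEquiv.symm ⟨a, ha⟩, ?_⟩
    have := index_centralizer_psl (pslEquiv.symm ⟨a, ha⟩)
    rw [MulEquiv.apply_symm_apply, ← hk] at this
    exact Nat.eq_of_mul_eq_mul_right Nat.card_pos this

/-- `PSL₂(q)` for odd `q`: the possible centraliser orders. -/
theorem cent_cases_odd (hodd : Odd (Fintype.card F)) {a : PGL(2, F)} (haL : a ∈ Lsub F) (ha : a ≠ 1) :
    Nat.card (Subgroup.centralizer {a} ⊓ Lsub F : Subgroup PGL(2, F)) = Fintype.card F ∨
      ∃ n : ℕ, (n = Fintype.card F - 1 ∨ n = Fintype.card F + 1) ∧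
        (2 * Nat.card (Subgroup.centralizer {a} ⊓ Lsub F : Subgroup PGL(2, F)) = n ∨
          (Nat.card (Subgroup.centralizer {a} ⊓ Lsub F : Subgroup PGL(2, F)) = n ∧ 4 ∣ n)) := by
  obtain ⟨E, _, _, _, hE⟩ := exists_quadExt F
  classical
  obtain ⟨p, hpc⟩ := CharP.exists F
  haveI : Fact p.Prime := ⟨CharP.char_is_prime F p⟩
  rcases kinds (p := p) hE ha with ⟨-, hc, hp⟩ | ⟨T, n, haT, hT, hn⟩
  · refine Or.inl ?_
    rw [← hc]
    exact congrArg (fun H : Subgroup PGL(2, F) => Nat.card H)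
      (inf_eq_left.mpr fun h hh => mem_Lsub_of_pow hodd p (hp h hh))
  · refine Or.inr ⟨n, hn, ?_⟩
    by_cases haa : a * a = 1
    · obtain ⟨hle, hcC⟩ := (hT.cent a haT ha).2 haa
      obtain ⟨t, htT, htL⟩ := hT.notL hodd
      have h2 := card_inf_Lsub hodd (T := Subgroup.centralizer {a}) ⟨t, hle htT, htL⟩
      refine Or.inr ⟨by omega, ?_⟩
      have h3 := inf_torus_card hT hodd
      have h4 : orderOf a ∣ Nat.card (T ⊓ Lsub F : Subgroup PGL(2, F)) :=
        Subgroup.orderOf_dvd_natCard _ (Subgroup.mem_inf.mpr ⟨haT, haL⟩)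
      rw [orderOf_eq_prime (p := 2) (by rw [sq, haa]) ha] at h4
      omega
    · rw [(hT.cent a haT ha).1 haa]
      exact Or.inl (inf_torus_card hT hodd)

theorem cent_exists_unip (hodd : Odd (Fintype.card F)) :
    ∃ a ∈ Lsub F, Nat.card (Subgroup.centralizer {a} ⊓ Lsub F : Subgroup PGL(2, F)) = Fintype.card F := by
  obtain ⟨E, _, _, _, hE⟩ := exists_quadExt F
  classical
  obtain ⟨p, hpc⟩ := CharP.exists F
  haveI : Fact p.Prime := ⟨CharP.char_is_prime F p⟩
  obtain ⟨k, hp, hk⟩ := FiniteField.card F p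
  have hdvd : p ∣ Nat.card (Lsub F) := by
    have h1 := card_Lsub_mul (F := F)
    have hpo : p ≠ 2 := fun h => by
      rw [hk, h] at hodd
      exact absurd hodd (Nat.not_odd_iff_even.mpr (Nat.even_pow.mpr ⟨even_two, k.pos.ne'⟩))
    have h2 : p ∣ Nat.gcd 2 (Fintype.card F - 1) * Nat.card (Lsub F) := by
      rw [h1, hk]; exact dvd_mul_of_dvd_left (dvd_pow_self p k.pos.ne') _
    refine (hp.dvd_mul.mp h2).resolve_left fun h => hpo ?_
    exact (Nat.prime_dvd_prime_iff_eq hp Nat.prime_two).mp (h.trans (Nat.gcd_dvd_left _ _))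
  obtain ⟨⟨a, haL⟩, ha⟩ := exists_prime_orderOf_dvd_card' (G := Lsub F) p hdvd
  rw [Subgroup.orderOf_mk] at ha
  have ha1 : a ≠ 1 := fun h => by rw [h, orderOf_one] at ha; exact hp.one_lt.ne ha
  refine ⟨a, haL, ?_⟩
  rcases kinds (p := p) hE ha1 with ⟨-, hc, hcp⟩ | ⟨T, n, haT, hT, hn⟩
  · rw [← hc]
    exact congrArg (fun H : Subgroup PGL(2, F) => Nat.card H)
      (inf_eq_left.mpr fun h hh => mem_Lsub_of_pow hodd p (hcp h hh))
  · exfalso
    have h1 : p ∣ n := ha ▸ hT.card ▸ Subgroup.orderOf_dvd_natCard _ haT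
    have h3 : p ∣ Fintype.card F := hk ▸ dvd_pow_self p k.pos.ne'
    rcases hn with rfl | rfl
    · exact hp.not_dvd_one (by
        have := Nat.dvd_sub h3 h1
        rwa [Nat.sub_sub_self (Fintype.card_pos)] at this)
    · exact hp.not_dvd_one ((Nat.dvd_add_right h3).mp h1)

theorem cent_exists_torus (hodd : Odd (Fintype.card F)) (h7 : 7 ≤ Fintype.card F) {n : ℕ}
    (hn : n = Fintype.card F - 1 ∨ n = Fintype.card F + 1) :
    (∃ a ∈ Lsub F, 2 * Nat.card (Subgroup.centralizer {a} ⊓ Lsub F : Subgroup PGL(2, F)) = n) ∧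
      (4 ∣ n → ∃ a ∈ Lsub F, Nat.card (Subgroup.centralizer {a} ⊓ Lsub F : Subgroup PGL(2, F)) = n) := by
  obtain ⟨E, _, _, _, hE⟩ := exists_quadExt F
  classical
  obtain ⟨p, hpc⟩ := CharP.exists F
  haveI : Fact p.Prime := ⟨CharP.char_is_prime F p⟩
  obtain ⟨T, hT⟩ : ∃ T : Subgroup PGL(2, F), IsTorusSub T n := by
    rcases hn with rfl | rfl
    · exact exists_torus_minus hE
    · exact exists_torus_plus hE
  obtain ⟨a, ha, hao⟩ := exists_gen_inf hT
  have h2 := inf_torus_card hT hodd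
  have hm : 3 ≤ orderOf a := by omega
  have ha1 : a ≠ 1 := fun h => by rw [h, orderOf_one] at hm; omega
  have haa : a * a ≠ 1 := fun h => by
    have := Nat.le_of_dvd two_pos (orderOf_dvd_of_pow_eq_one (show a ^ 2 = 1 by rw [sq, h]))
    omega
  refine ⟨⟨a, ha.2, by rw [(hT.cent a ha.1 ha1).1 haa, h2]⟩, fun h4 => ?_⟩
  have h2m : 2 ∣ orderOf a := by omega
  set b := a ^ (orderOf a / 2) with hb
  have hbo : orderOf b = 2 := orderOf_pow_orderOf_div (by omega) h2m
  have hb1 : b ≠ 1 := fun h => by rw [h, orderOf_one] at hbo; omega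
  have hbb : b * b = 1 := by rw [← sq]; exact orderOf_dvd_iff_pow_eq_one.mp hbo.dvd
  obtain ⟨hle, hc⟩ := (hT.cent b (pow_mem ha.1 _) hb1).2 hbb
  obtain ⟨t, htT, htL⟩ := hT.notL hodd
  have h3 := card_inf_Lsub hodd (T := Subgroup.centralizer {b}) ⟨t, hle htT, htL⟩
  exact ⟨b, pow_mem ha.2 _, by omega⟩

/-- `PSL₂(q) = PGL₂(q)` for even `q`: the centraliser orders. -/
theorem cent_even (heven : Even (Fintype.card F)) (h4 : 4 ≤ Fintype.card F) (c : ℕ) :
    (∃ a ∈ Lsub F, a ≠ 1 ∧ Nat.card (Subgroup.centralizer {a} ⊓ Lsub F : Subgroup PGL(2, F)) = c) ↔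
      c = Fintype.card F ∨ c = Fintype.card F - 1 ∨ c = Fintype.card F + 1 := by
  obtain ⟨E, _, _, _, hE⟩ := exists_quadExt F
  classical
  obtain ⟨p, hpc⟩ := CharP.exists F
  haveI : Fact p.Prime := ⟨CharP.char_is_prime F p⟩
  have hL : Lsub F = ⊤ := Lsub_eq_top_of_even heven
  have hinf : ∀ a : PGL(2, F), Nat.card (Subgroup.centralizer {a} ⊓ Lsub F : Subgroup PGL(2, F)) =
      Nat.card (Subgroup.centralizer {a}) :=
    fun a => congrArg (fun H : Subgroup PGL(2, F) => Nat.card H) (inf_eq_left.mpr (hL ▸ le_top))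
  obtain ⟨i, hi⟩ := heven
  have htor : ∀ {T : Subgroup PGL(2, F)} {n : ℕ}, IsTorusSub T n →
      (n = Fintype.card F - 1 ∨ n = Fintype.card F + 1) → ∀ a ∈ T, a ≠ 1 →
      Nat.card (Subgroup.centralizer {a}) = n := by
    intro T n hT hn a haT ha
    rw [(hT.cent a haT ha).1 fun haa => ?_, hT.card]
    have := Subgroup.orderOf_dvd_natCard _ haT
    rw [orderOf_eq_prime (p := 2) (by rw [sq, haa]) ha, hT.card] at this
    omega
  constructor
  · rintro ⟨a, -, ha, rfl⟩
    rw [hinf]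
    rcases kinds (p := p) hE ha with ⟨-, hc, -⟩ | ⟨T, n, haT, hT, hn⟩
    · exact Or.inl hc
    · rw [htor hT hn a haT ha]; exact Or.inr hn
  · have htorex : ∀ {T : Subgroup PGL(2, F)} {n : ℕ}, IsTorusSub T n →
        (n = Fintype.card F - 1 ∨ n = Fintype.card F + 1) →
        ∃ a ∈ Lsub F, a ≠ 1 ∧ Nat.card (Subgroup.centralizer {a} ⊓ Lsub F : Subgroup PGL(2, F)) = n := by
      intro T n hT hn
      haveI : Nontrivial T := Finite.one_lt_card_iff_nontrivial.mp (by rw [hT.card]; omega)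
      obtain ⟨⟨a, haT⟩, ha⟩ := exists_ne (1 : T)
      exact ⟨a, hL ▸ trivial, fun h => ha (Subtype.ext h),
        (hinf a).trans (htor hT hn a haT fun h => ha (Subtype.ext h))⟩
    rintro (rfl | rfl | rfl)
    · obtain ⟨k, hp, hk⟩ := FiniteField.card F p
      have hdvd : p ∣ Nat.card PGL(2, F) := by
        rw [card_pgl]; exact dvd_mul_of_dvd_left (hk ▸ dvd_pow_self p k.pos.ne') _
      obtain ⟨a, hao⟩ := exists_prime_orderOf_dvd_card' (G := PGL(2, F)) p hdvd
      have ha : a ≠ 1 := fun h => by rw [h, orderOf_one] at hao; exact hp.one_lt.ne hao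
      refine ⟨a, hL ▸ trivial, ha, (hinf a).trans ?_⟩
      rcases kinds (p := p) hE ha with ⟨-, hc, -⟩ | ⟨T, n, haT, hT, hn⟩
      · exact hc
      · exfalso
        have h1 : p ∣ n := hao ▸ hT.card ▸ Subgroup.orderOf_dvd_natCard _ haT
        have h3 : p ∣ Fintype.card F := hk ▸ dvd_pow_self p k.pos.ne'
        rcases hn with rfl | rfl
        · exact hp.not_dvd_one (by
            have := Nat.dvd_sub h3 h1
            rwa [Nat.sub_sub_self (Fintype.card_pos)] at this)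
        · exact hp.not_dvd_one ((Nat.dvd_add_right h3).mp h1)
    · obtain ⟨T, hT⟩ := exists_torus_minus hE
      exact htorex hT (Or.inl rfl)
    · obtain ⟨T, hT⟩ := exists_torus_plus hE
      exact htorex hT (Or.inr rfl)

theorem cent_one : Nat.card (Subgroup.centralizer {(1 : PGL(2, F))} ⊓ Lsub F : Subgroup PGL(2, F)) =
    Nat.card (Lsub F) :=
  congrArg (fun H : Subgroup PGL(2, F) => Nat.card H)
    (inf_eq_right.mpr fun x _ => Subgroup.mem_centralizer_singleton_iff.mpr (by simp))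

end Cfsg.Agent.Lib.PSLTwo
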