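import Cfsg.Agent.Lib.PSLTwo.Over

/-! All copies of `A₄`, `S₄` and `A₅` in `PGL₂(q)`, `q` odd. -/

set_option autoImplicit false
set_option linter.unusedSectionVars false
set_option linter.style.haveILetI false
set_option linter.style.longLine false

open Matrix MulAction OnePoint
open scoped MatrixGroups

namespace Cfsg.Agent.Lib.PSLTwo

variable {F : Type*} [Field F] [Fintype F] [DecidableEq F]

theorem sq_mem_Lsub (g : PGL(2, F)) : g * g ∈ Lsub F := by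
  by_cases h : g ∈ Lsub F
  · exact mul_mem h h
  · exact mul_mem_Lsub h h

theorem alt_four_sq : ∀ g : alternatingGroup (Fin 4), ∃ a b : alternatingGroup (Fin 4), g = a * a * (b * b) := by
  decide +kernel

theorem le_Lsub_of_alt_four {H : Subgroup PGL(2, F)} (h : Nonempty (H ≃* alternatingGroup (Fin 4))) :
    H ≤ Lsub F := by
  obtain ⟨e⟩ := h
  intro g hg
  obtain ⟨a, b, hab⟩ := alt_four_sq (e ⟨g, hg⟩)
  have hh : (⟨g, hg⟩ : H) = e.symm a * e.symm a * (e.symm b * e.symm b) := by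
    rw [← map_mul, ← map_mul, ← map_mul, ← hab, MulEquiv.symm_apply_apply]
  rw [show g = ((⟨g, hg⟩ : H) : PGL(2, F)) from rfl, hh]
  exact mul_mem (sq_mem_Lsub (e.symm a : PGL(2, F))) (sq_mem_Lsub (e.symm b : PGL(2, F)))

theorem le_Lsub_of_alt_five {H : Subgroup PGL(2, F)} (h : Nonempty (H ≃* alternatingGroup (Fin 5))) :
    H ≤ Lsub F := by
  obtain ⟨e⟩ := h
  haveI : (Lsub F).Normal := Lsub_normal
  haveI := alternatingGroup.isSimpleGroup_five
  set N := ((Lsub F).subgroupOf H).map e.toMonoidHom with hN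
  haveI : N.Normal := Subgroup.Normal.map inferInstance _ e.surjective
  rcases Subgroup.Normal.eq_bot_or_eq_top (H := N) inferInstance with h0 | h0
  · exfalso
    rw [hN, Subgroup.map_eq_bot_iff_of_injective _ e.injective, Subgroup.subgroupOf_eq_bot, disjoint_iff] at h0
    obtain ⟨s, hs1, hs2⟩ : ∃ s : alternatingGroup (Fin 5), s * s ≠ 1 ∧ s ≠ 1 :=
      ⟨⟨c[0, 1, 2], Equiv.Perm.mem_alternatingGroup.mpr (by decide +kernel)⟩, by decide +kernel, by decide +kernel⟩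
    have h1 : ((e.symm s : H) : PGL(2, F)) * (e.symm s : H) ∈ (Lsub F ⊓ H : Subgroup PGL(2, F)) :=
      ⟨sq_mem_Lsub _, mul_mem (e.symm s).2 (e.symm s).2⟩
    rw [h0, Subgroup.mem_bot] at h1
    refine hs1 (e.symm.injective ?_)
    rw [map_mul, map_one]
    exact Subtype.ext h1
  · intro g hg
    have : e ⟨g, hg⟩ ∈ N := h0 ▸ Subgroup.mem_top _
    obtain ⟨g', hg', he⟩ := this
    obtain rfl := e.injective he
    exact hg'

/-- A transported relation. -/
theorem symm_ne_one {A B : Type*} [Group A] [Group B] (e : A ≃* B) {x : B} (h : x ≠ 1) : e.symm x ≠ 1 :=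
  fun h' => h (by rw [← e.apply_symm_apply x, h', map_one])

section Copies

variable {x y : F} (hxy : x ^ 2 + y ^ 2 = -1) (h2 : (2 : F) ≠ 0)

theorem sq_mem_qA {g : PGL(2, F)} (hg : g ∈ qN hxy) : g * g ∈ qA hxy h2 := by
  have hidx : ((qA hxy h2).subgroupOf (qN hxy)).index = 2 := by
    have := Subgroup.card_mul_index ((qA hxy h2).subgroupOf (qN hxy))
    rw [Nat.card_congr (Subgroup.subgroupOfEquivOfLe (qA_le_qN hxy h2)).toEquiv, card_qA, card_qN hxy h2] at this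
    omega
  exact Subgroup.mul_self_mem_of_index_two hidx ⟨g, hg⟩

include h2 in
theorem conj_le_qN {H : Subgroup PGL(2, F)} {a b : PGL(2, F)} (haH : a ∈ H) (hbH : b ∈ H)
    (haL : a ∈ Lsub F) (hbL : b ∈ Lsub F) (ha : a * a = 1) (hb : b * b = 1) (ha1 : a ≠ 1) (hb1 : b ≠ 1)
    (hab : a ≠ b) (hc : a * b = b * a)
    (hn : ∀ g ∈ H, (g * a * g⁻¹ = a ∨ g * a * g⁻¹ = b ∨ g * a * g⁻¹ = a * b) ∧
      (g * b * g⁻¹ = a ∨ g * b * g⁻¹ = b ∨ g * b * g⁻¹ = a * b)) :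
    ∃ γ : PGL(2, F), γ * a * γ⁻¹ = qI hxy ∧ γ * b * γ⁻¹ = qJ hxy ∧
      H.map (MulAut.conj γ).toMonoidHom ≤ qN hxy ∧ qV hxy ≤ H.map (MulAut.conj γ).toMonoidHom := by
  obtain ⟨γ, hγa, hγb⟩ := klein_conj hxy h2 haL hbL ha hb ha1 hb1 hab hc
  have hγc : γ * (a * b) * γ⁻¹ = qK hxy := by
    rw [← qI_mul_qJ, ← hγa, ← hγb]; group
  have hmemI : qI hxy ∈ qV hxy := Or.inr (Or.inl rfl)
  have hmemJ : qJ hxy ∈ qV hxy := Or.inr (Or.inr (Or.inl rfl))
  have hmemK : qK hxy ∈ qV hxy := Or.inr (Or.inr (Or.inr rfl))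
  refine ⟨γ, hγa, hγb, ?_, ?_⟩
  · rintro _ ⟨g, hg, rfl⟩
    have key : ∀ u v : PGL(2, F), γ * v * γ⁻¹ ∈ qV hxy → g * u * g⁻¹ = v →
        MulAut.conj γ g * (γ * u * γ⁻¹) * (MulAut.conj γ g)⁻¹ ∈ qV hxy := fun u v hv e => by
      rw [MulAut.conj_apply, show γ * g * γ⁻¹ * (γ * u * γ⁻¹) * (γ * g * γ⁻¹)⁻¹ = γ * (g * u * g⁻¹) * γ⁻¹ by group, e]
      exact hv
    obtain ⟨h1, h2'⟩ := hn g hg
    refine mem_qN_of hxy ?_ ?_
    · show MulAut.conj γ g * qI hxy * (MulAut.conj γ g)⁻¹ ∈ qV hxy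
      rw [← hγa]
      rcases h1 with e | e | e
      · exact key a a (hγa ▸ hmemI) e
      · exact key a b (hγb ▸ hmemJ) e
      · exact key a _ (hγc ▸ hmemK) e
    · show MulAut.conj γ g * qJ hxy * (MulAut.conj γ g)⁻¹ ∈ qV hxy
      rw [← hγb]
      rcases h2' with e | e | e
      · exact key b a (hγa ▸ hmemI) e
      · exact key b b (hγb ▸ hmemJ) e
      · exact key b _ (hγc ▸ hmemK) e
  · rintro g (rfl | rfl | rfl | rfl)
    · exact one_mem _
    · exact ⟨a, haH, hγa⟩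
    · exact ⟨b, hbH, hγb⟩
    · exact ⟨a * b, mul_mem haH hbH, hγc⟩

include h2 in
theorem exists_conj_qN {H : Subgroup PGL(2, F)} (h : Nonempty (H ≃* Equiv.Perm (Fin 4))) :
    ∃ γ : PGL(2, F), H.map (MulAut.conj γ).toMonoidHom = qN hxy := by
  obtain ⟨e⟩ := h
  obtain ⟨A, B, P, Q, hA, hB, hA2, hB2, hA1, hB1, hAB, hC, hn⟩ :
      ∃ A B P Q : Equiv.Perm (Fin 4), A = P * P ∧ B = Q * Q ∧ A * A = 1 ∧ B * B = 1 ∧ A ≠ 1 ∧ B ≠ 1 ∧ A ≠ B ∧
        A * B = B * A ∧ ∀ g : Equiv.Perm (Fin 4), (g * A * g⁻¹ = A ∨ g * A * g⁻¹ = B ∨ g * A * g⁻¹ = A * B) ∧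
          (g * B * g⁻¹ = A ∨ g * B * g⁻¹ = B ∨ g * B * g⁻¹ = A * B) :=
    ⟨c[0, 1] * c[2, 3], c[0, 2] * c[1, 3], c[0, 2, 1, 3], c[0, 1, 2, 3], by decide +kernel, by decide +kernel,
      by decide +kernel, by decide +kernel, by decide +kernel, by decide +kernel, by decide +kernel,
      by decide +kernel, by decide +kernel⟩
  let f : Equiv.Perm (Fin 4) → PGL(2, F) := fun g => (e.symm g : H)
  have fmul : ∀ g g', f (g * g') = f g * f g' := fun g g' => congrArg Subtype.val (map_mul e.symm g g')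
  have finj : Function.Injective f := fun g g' h => e.symm.injective (Subtype.ext h)
  have f1 : f 1 = 1 := congrArg Subtype.val (map_one e.symm)
  have finv : ∀ g, f g⁻¹ = (f g)⁻¹ := fun g => congrArg Subtype.val (map_inv e.symm g)
  obtain ⟨γ, -, -, hle, -⟩ := conj_le_qN hxy h2 (H := H) (a := f A) (b := f B) (e.symm A).2 (e.symm B).2
    (hA ▸ (fmul P P).symm ▸ sq_mem_Lsub _) (hB ▸ (fmul Q Q).symm ▸ sq_mem_Lsub _)
    (by rw [← fmul, hA2, f1]) (by rw [← fmul, hB2, f1]) (fun h => hA1 (finj (h.trans f1.symm)))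
    (fun h => hB1 (finj (h.trans f1.symm))) (fun h => hAB (finj h)) (by rw [← fmul, ← fmul, hC])
    (fun g hg => by
      have hgf : g = f (e ⟨g, hg⟩) := (congrArg Subtype.val (e.symm_apply_apply ⟨g, hg⟩)).symm
      rw [hgf, ← finv, ← fmul, ← fmul, ← fmul, ← fmul, ← fmul]
      simp only [finj.eq_iff]
      exact hn _)
  refine ⟨γ, Subgroup.eq_of_le_of_card_ge hle (le_of_eq ?_)⟩
  rw [card_qN hxy h2, card_conj_map, Nat.card_congr e.toEquiv, Nat.card_perm, Nat.card_fin]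
  rfl

theorem exists_conj_qA {H : Subgroup PGL(2, F)} (h : Nonempty (H ≃* alternatingGroup (Fin 4))) :
    ∃ γ : PGL(2, F), H.map (MulAut.conj γ).toMonoidHom = qA hxy h2 := by
  have hHL := le_Lsub_of_alt_four h
  obtain ⟨e⟩ := h
  obtain ⟨A, B, hA2, hB2, hA1, hB1, hAB, hC, hn⟩ :
      ∃ A B : alternatingGroup (Fin 4), A * A = 1 ∧ B * B = 1 ∧ A ≠ 1 ∧ B ≠ 1 ∧ A ≠ B ∧
        A * B = B * A ∧ ∀ g : alternatingGroup (Fin 4), (g * A * g⁻¹ = A ∨ g * A * g⁻¹ = B ∨ g * A * g⁻¹ = A * B) ∧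
          (g * B * g⁻¹ = A ∨ g * B * g⁻¹ = B ∨ g * B * g⁻¹ = A * B) :=
    ⟨⟨c[0, 1] * c[2, 3], Equiv.Perm.mem_alternatingGroup.mpr (by decide +kernel)⟩,
      ⟨c[0, 2] * c[1, 3], Equiv.Perm.mem_alternatingGroup.mpr (by decide +kernel)⟩, by decide +kernel,
      by decide +kernel, by decide +kernel, by decide +kernel, by decide +kernel, by decide +kernel, by decide +kernel⟩
  let f : alternatingGroup (Fin 4) → PGL(2, F) := fun g => (e.symm g : H)
  have fmul : ∀ g g', f (g * g') = f g * f g' := fun g g' => congrArg Subtype.val (map_mul e.symm g g')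
  have finj : Function.Injective f := fun g g' h => e.symm.injective (Subtype.ext h)
  have f1 : f 1 = 1 := congrArg Subtype.val (map_one e.symm)
  have finv : ∀ g, f g⁻¹ = (f g)⁻¹ := fun g => congrArg Subtype.val (map_inv e.symm g)
  obtain ⟨γ, -, -, hle, -⟩ := conj_le_qN hxy h2 (H := H) (a := f A) (b := f B) (e.symm A).2 (e.symm B).2
    (hHL (e.symm A).2) (hHL (e.symm B).2)
    (by rw [← fmul, hA2, f1]) (by rw [← fmul, hB2, f1]) (fun h => hA1 (finj (h.trans f1.symm)))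
    (fun h => hB1 (finj (h.trans f1.symm))) (fun h => hAB (finj h)) (by rw [← fmul, ← fmul, hC])
    (fun g hg => by
      have hgf : g = f (e ⟨g, hg⟩) := (congrArg Subtype.val (e.symm_apply_apply ⟨g, hg⟩)).symm
      rw [hgf, ← finv, ← fmul, ← fmul, ← fmul, ← fmul, ← fmul]
      simp only [finj.eq_iff]
      exact hn _)
  refine ⟨γ, Subgroup.eq_of_le_of_card_ge ?_ (le_of_eq ?_)⟩
  · intro g' hg'
    obtain ⟨g, hg, rfl⟩ := hg'
    obtain ⟨a, b, hab⟩ := alt_four_sq (e ⟨g, hg⟩)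
    have hh : g = f a * f a * (f b * f b) := by
      rw [← fmul, ← fmul, ← fmul, ← hab]
      exact (congrArg Subtype.val (e.symm_apply_apply ⟨g, hg⟩)).symm
    rw [hh, map_mul, map_mul, map_mul]
    exact mul_mem (sq_mem_qA hxy h2 (hle ⟨f a, (e.symm a).2, rfl⟩))
      (sq_mem_qA hxy h2 (hle ⟨f b, (e.symm b).2, rfl⟩))
  · rw [card_qA hxy h2, card_conj_map, ← card_qA hxy h2]
    obtain ⟨e'⟩ := qA_iso hxy h2
    exact Nat.card_congr (e'.trans e.symm).toEquiv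

include hxy h2 in
theorem exists_qel (g : PGL(2, F)) :
    ∃ (a b c d : F) (h : a ^ 2 + b ^ 2 + c ^ 2 + d ^ 2 ≠ 0), g = qel hxy a b c d h := by
  induction g using ProjGenLinGroup.induction_on with | mk m => ?_
  set A : Matrix (Fin 2) (Fin 2) F := (m : Matrix (Fin 2) (Fin 2) F) with hA
  have key : A = qmat x y ((A 0 0 + A 1 1) / 2) ((A 0 1 - A 1 0) / 2)
      (-(x * (A 0 0 - A 1 1) + y * (A 0 1 + A 1 0)) / 2) (-(y * (A 0 0 - A 1 1) - x * (A 0 1 + A 1 0)) / 2) := by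
    ext i j
    fin_cases i <;> fin_cases j <;> simp [qmat] <;> field_simp
    · linear_combination (A 0 0 - A 1 1) * hxy
    · linear_combination (A 0 1 + A 1 0) * hxy
    · linear_combination (A 0 1 + A 1 0) * hxy
    · linear_combination (A 1 1 - A 0 0) * hxy
  have hdet : A.det ≠ 0 := m.det_ne_zero
  rw [key, det_qmat hxy] at hdet
  exact ⟨_, _, _, _, hdet, congrArg _ (Units.ext key)⟩

include h2 in
theorem qN_le_subPGL {K : Subfield F} (hx : x ∈ K) (hy : y ∈ K) : qN hxy ≤ subPGL K := by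
  have hA : qA hxy h2 ≤ qN hxy ⊓ subPGL K := le_inf (qA_le_qN hxy h2) (qA_le_subPGL hxy h2 hx hy)
  have hS : qS hxy h2 ∈ qN hxy ⊓ subPGL K :=
    ⟨qS_mem_qN hxy h2, qel_mem_subPGL hxy hx hy (one_mem K) (one_mem K) (zero_mem K) (zero_mem K) _⟩
  have h12 := Subgroup.card_dvd_of_le hA
  have h24 := Subgroup.card_dvd_of_le (inf_le_left (a := qN hxy) (b := subPGL K))
  rw [card_qA hxy h2] at h12
  rw [card_qN hxy h2] at h24
  obtain ⟨k, hk⟩ := h12
  have hk2 : k = 2 := by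
    rw [hk] at h24
    have : 12 * k ∣ 12 * 2 := h24
    have := (Nat.dvd_prime Nat.prime_two).mp (Nat.dvd_of_mul_dvd_mul_left (by norm_num) this)
    rcases this with rfl | rfl
    · exact absurd ((Subgroup.eq_of_le_of_card_ge hA (le_of_eq (by rw [hk, card_qA hxy h2]))).symm ▸ hS)
        (qS_not_mem_qA hxy h2)
    · rfl
  have heq : qN hxy ⊓ subPGL K = qN hxy :=
    Subgroup.eq_of_le_of_card_ge inf_le_left (le_of_eq (by rw [hk, hk2, card_qN hxy h2]))
  exact inf_eq_left.mp heq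

end Copies

end Cfsg.Agent.Lib.PSLTwo
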