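import Cfsg.Agent.Lib.PSLTwo.AltFiveCopies

/-! Tools for the lists of maximal subgroups. -/

set_option autoImplicit false
set_option linter.unusedSectionVars false
set_option linter.style.haveILetI false
set_option linter.style.longLine false

open Matrix MulAction OnePoint
open scoped MatrixGroups

namespace Cfsg.Agent.Lib.PSLTwo

section General

variable {G : Type*} [Group G]

theorem MaxIn.eq_of_le {M L X : Subgroup G} (h : MaxIn M L) (h1 : M ≤ X) (h2 : X ≤ L) (h3 : X ≠ L) : M = X :=
  ((h.2 X h1 h2).resolve_right h3).symm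

theorem maxIn_top {M : Subgroup G} : MaxIn M ⊤ ↔ IsCoatom M := by
  constructor
  · rintro ⟨h1, h2⟩
    exact ⟨h1.ne, fun X hX => (h2 X hX.le le_top).resolve_left hX.ne'⟩
  · rintro ⟨h1, h2⟩
    exact ⟨lt_top_iff_ne_top.mpr h1, fun X hX _ => (eq_or_lt_of_le hX).imp Eq.symm (h2 X)⟩

theorem map_conj_map_conj (H : Subgroup G) (γ δ : G) :
    (H.map (MulAut.conj δ).toMonoidHom).map (MulAut.conj γ).toMonoidHom =
      H.map (MulAut.conj (γ * δ)).toMonoidHom := by
  rw [Subgroup.map_map]
  congr 1
  ext g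
  simp [mul_assoc]

theorem map_conj_inv (H : Subgroup G) (γ : G) :
    (H.map (MulAut.conj γ).toMonoidHom).map (MulAut.conj γ⁻¹).toMonoidHom = H := by
  rw [map_conj_map_conj, inv_mul_cancel, map_one]
  exact Subgroup.map_id H

theorem map_conj_normal {L : Subgroup G} [L.Normal] (γ : G) : L.map (MulAut.conj γ).toMonoidHom = L := by
  apply le_antisymm
  · rintro _ ⟨g, hg, rfl⟩
    exact Subgroup.Normal.conj_mem inferInstance g hg γ
  · intro g hg
    refine ⟨γ⁻¹ * g * γ, ?_, by simp [mul_assoc]⟩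
    have := Subgroup.Normal.conj_mem (H := L) inferInstance g hg γ⁻¹
    rwa [inv_inv] at this

/-- Conjugates of maximal subgroups are maximal. -/
theorem MaxIn.map_conj {M L : Subgroup G} [L.Normal] (h : MaxIn M L) (γ : G) :
    MaxIn (M.map (MulAut.conj γ).toMonoidHom) L := by
  have key : ∀ {A B : Subgroup G}, A ≤ B → A.map (MulAut.conj γ⁻¹).toMonoidHom ≤ B.map (MulAut.conj γ⁻¹).toMonoidHom :=
    fun h => Subgroup.map_mono h
  refine ⟨lt_of_le_of_ne ((Subgroup.map_mono h.1.le).trans (map_conj_normal γ).le) fun e => h.1.ne ?_,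
    fun X h1 h2 => ?_⟩
  · rw [← map_conj_inv M γ, e, map_conj_normal]
  · rcases h.2 (X.map (MulAut.conj γ⁻¹).toMonoidHom) (map_conj_inv M γ ▸ key h1)
      ((key h2).trans (map_conj_normal γ⁻¹).le) with e | e
    · left
      rw [← e, map_conj_map_conj, mul_inv_cancel, map_one]
      exact (Subgroup.map_id X).symm
    · right
      have := congrArg (Subgroup.map (MulAut.conj γ).toMonoidHom) e
      rwa [map_conj_map_conj, mul_inv_cancel, map_one, map_conj_normal,
        show Subgroup.map ((1 : MulAut G)).toMonoidHom X = X from Subgroup.map_id X] at this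

end General

section Fields

variable {F : Type*} [Field F] [Fintype F] [DecidableEq F] {p : ℕ} [Fact p.Prime] [CharP F p]

include p in
theorem exists_subfield_between (K : Subfield F) {m r : ℕ} (hm : Fintype.card F = Nat.card K ^ m) (hr : r ∣ m)
    (hr0 : r ≠ 0) : ∃ K₂ : Subfield F, K ≤ K₂ ∧ Nat.card K₂ = Nat.card K ^ r := by
  obtain ⟨b, hb, hKb⟩ := card_subfield_eq_pow p K
  obtain ⟨K₂, hK₂⟩ := exists_subfield p (n := b * m) (a := b * r) (by rw [hm, hKb, ← pow_mul])
    (Nat.mul_dvd_mul_left b hr) (Nat.mul_ne_zero (by omega) hr0)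
  have hc : Nat.card K₂ = Nat.card K ^ r := by rw [hK₂, hKb, ← pow_mul]
  exact ⟨K₂, subfield_le_of_pow hc, hc⟩

theorem card_lt_top {H : Subgroup PGL(2, F)} (h : Nat.card H < Nat.card PGL(2, F)) : H < ⊤ :=
  lt_top_iff_ne_top.mpr fun e => h.ne (by rw [e, Subgroup.card_top])

theorem subPGL_lt_top {E : Type*} [Field E] [DecidableEq E] [Finite E] [Algebra F E]
    (hE : Nat.card E = Fintype.card F ^ 2) (K : Subfield F) (hK : Nat.card K < Fintype.card F) :
    subPGL K < ⊤ :=
  card_lt_top (by rw [card_subPGL, card_pgl]; exact nat_cube_lt hK Fintype.one_lt_card)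

include p in
theorem prime_card_subfield : ∃ K : Subfield F, Nat.card K = p := by
  obtain ⟨n, hn0, hn⟩ := FiniteField.card F p
  obtain ⟨K, hK⟩ := exists_subfield p hn (one_dvd _) one_ne_zero
  exact ⟨K, hK.trans (pow_one p)⟩

end Fields

section Line

variable {F E : Type*} [Field F] [Fintype F] [DecidableEq F] [Field E] [DecidableEq E] [Finite E]
  [Algebra F E] {p : ℕ} [Fact p.Prime] [CharP F p]
  (hE : Nat.card E = Fintype.card F ^ 2)

include hE

theorem stab_lt_top (a : OnePoint F) : stabilizer PGL(2, F) a < ⊤ := by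
  refine card_lt_top ?_
  rw [card_stab_point, card_pgl]
  have h2 := Fintype.one_lt_card (α := F)
  refine Nat.mul_lt_mul_of_pos_left ?_ (by omega)
  have := Nat.mul_le_mul_right (Fintype.card F) h2
  rw [sq]; omega

theorem pairStab_lt_top (hq3 : 3 ≤ Fintype.card F) {x y : OnePoint E} (h : IsTorusPair F x y) :
    pairStab F x y < ⊤ := by
  refine card_lt_top ?_
  rw [(pairStab_spec hE h).1, card_pgl]
  have h2 := Fintype.one_lt_card (α := F)
  have h3 : 3 ≤ Fintype.card F ^ 2 - 1 := by
    have : 2 ^ 2 ≤ Fintype.card F ^ 2 := Nat.pow_le_pow_left (show 2 ≤ Fintype.card F from h2) 2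
    omega
  have h6 := Nat.mul_le_mul_left (Fintype.card F) h3
  have hT : Nat.card (torus F x y) ≤ Fintype.card F + 1 := by
    rcases card_torus_cases hE h with e | e <;> omega
  omega

/-- The order of a torus is twice a number coprime to the one of the other kind. -/
theorem conj_pairStab_le (hodd : Odd (Fintype.card F)) {x y : OnePoint E} (hxy : IsTorusPair F x y) {k : ℕ}
    (hk2 : 2 ≤ k) (hk : Nat.card (torus F x y) = 2 * k) {Y : Subgroup PGL(2, F)} (hY : Y ≤ Lsub F)
    {t s : PGL(2, F)} (ht : t ∈ Y) (hs : s ∈ Y) (htk : orderOf t = k) (hst : s * t * s⁻¹ = t⁻¹)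
    (hsz : s ∉ Subgroup.zpowers t) :
    ∃ γ : PGL(2, F), (pairStab F x y ⊓ Lsub F).map (MulAut.conj γ).toMonoidHom ≤ Y := by
  classical
  obtain ⟨p', hp'⟩ := CharP.exists F
  haveI : Fact p'.Prime := ⟨CharP.char_is_prime F p'⟩
  have P := poles (F := F) (E := E) (p := p') hE
  obtain ⟨u, hu⟩ := P.exists_fix t
  have ht1 : t ≠ 1 := fun e => by rw [e, orderOf_one] at htk; omega
  obtain ⟨n, -, hn⟩ := FiniteField.card F p'
  have hkq : k = (Fintype.card F - 1) / 2 ∨ k = (Fintype.card F + 1) / 2 := by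
    rcases card_torus_cases hE hxy with e | e <;> omega
  have htp : t ^ p' ≠ 1 := fun e => by
    have h1 := orderOf_dvd_of_pow_eq_one e
    rw [htk] at h1
    rcases (Nat.dvd_prime Fact.out).mp h1 with h | h
    · omega
    · have h2 : p' ∣ Fintype.card F := hn ▸ dvd_pow_self _ n.pos.ne'
      have h3 : 2 * p' ∣ Fintype.card F - 1 ∨ 2 * p' ∣ Fintype.card F + 1 := by
        rcases card_torus_cases hE hxy with e' | e' <;> rw [hk, h] at e'
        · exact Or.inl (dvd_of_eq e')
        · exact Or.inr (dvd_of_eq e')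
      have hq1 : 1 ≤ Fintype.card F := Fintype.card_pos
      have hp2 := (Fact.out : p'.Prime).two_le
      rcases h3 with h3 | h3
      · have := Nat.dvd_sub h2 (dvd_trans (dvd_mul_left p' 2) h3)
        rw [Nat.sub_sub_self hq1] at this
        have := Nat.le_of_dvd one_pos this
        omega
      · have := Nat.dvd_sub (dvd_trans (dvd_mul_left p' 2) h3) h2
        rw [Nat.add_sub_cancel_left] at this
        have := Nat.le_of_dvd one_pos this
        omega
  obtain ⟨v, hv, hvu⟩ : ∃ v, t • v = v ∧ v ≠ u := by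
    by_contra hno
    push Not at hno
    exact htp ((P.pElem t u ht1 hu).mpr hno)
  have huv : IsTorusPair F u v := torusPair_of_fix hE hvu.symm ht1 hu hv
  have htT : t ∈ torus F u v := ⟨hu, hv⟩
  -- same kind
  have hkind : IsRat F u ↔ IsRat F x := by
    obtain ⟨-, -, -⟩ := pairStab_Lsub_spec hE hodd huv
    have hTL : k ∣ Nat.card (torus F u v ⊓ Lsub F : Subgroup PGL(2, F)) :=
      htk ▸ Subgroup.orderOf_dvd_natCard _ ⟨htT, hY ht⟩
    obtain ⟨g, hg1, hg2⟩ := exists_torus_not_Lsub hE hodd huv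
    have h2T := card_inf_Lsub hodd (T := torus F u v) ⟨g, hg1, hg2⟩
    have hd : 2 * k ∣ Nat.card (torus F u v) := h2T ▸ Nat.mul_dvd_mul_left 2 hTL
    have hq := Fintype.one_lt_card (α := F)
    by_contra hne
    have hTx := card_torus hE hxy
    have hTu := card_torus hE huv
    have h4 : 2 * k ∣ 2 := by
      by_cases hx : IsRat F x
      · have hnu : ¬ IsRat F u := fun h => hne ⟨fun _ => hx, fun _ => h⟩
        rw [hTu.2 hnu] at hd
        have e := hTx.1 hx
        have := Nat.dvd_sub hd (dvd_refl (2 * k))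
        rwa [show Fintype.card F + 1 - 2 * k = 2 by omega] at this
      · have hu' : IsRat F u := by
          by_contra h
          exact hne ⟨fun h' => absurd h' h, fun h' => absurd h' hx⟩
        rw [hTu.1 hu'] at hd
        have e := hTx.2 hx
        have := Nat.dvd_sub (dvd_refl (2 * k)) hd
        rwa [show 2 * k - (Fintype.card F - 1) = 2 by omega] at this
    have := Nat.le_of_dvd two_pos h4
    omega
  have hsP : s ∈ pairStab F u v := by
    have h1 : ∀ z : OnePoint E, t • z = z → t • (s • z) = s • z := fun z hz => by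
      have h2 : t⁻¹ • (s • z) = s • z := by
        rw [← hst, mul_smul, mul_smul, inv_smul_smul, hz]
      exact (inv_smul_eq_iff.mp h2).symm
    have huv' : ∀ z : OnePoint E, t • z = z → z = u ∨ z = v := fun z hz => by
      by_contra h
      push Not at h
      exact ht1 (P.three t u v z hvu.symm h.1.symm h.2.symm hu hv hz)
    rw [mem_pairStab]
    rcases huv' _ (h1 u hu) with e | e <;> rcases huv' _ (h1 v hv) with e' | e'
    · exact absurd (smul_left_cancel s (e.trans e'.symm)) hvu.symm
    · exact Or.inl ⟨e, e'⟩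
    · exact Or.inr ⟨e, e'⟩
    · exact absurd (smul_left_cancel s (e.trans e'.symm)) hvu.symm
  obtain ⟨g, hgx, hgy⟩ := conj_pair hE hxy huv hkind.symm
  refine ⟨g, ?_⟩
  haveI : (Lsub F).Normal := Lsub_normal
  rw [Subgroup.map_inf _ _ _ (MulAut.conj g).injective, ← pairStab_smul, map_conj_normal, hgx, hgy]
  -- `⟨t, s⟩` is everything
  have hTuv : Nat.card (torus F u v) = 2 * k := by
    rw [← hk]
    by_cases hx : IsRat F x
    · rw [(card_torus hE huv).1 (hkind.mpr hx), (card_torus hE hxy).1 hx]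
    · rw [(card_torus hE huv).2 (fun h => hx (hkind.mp h)), (card_torus hE hxy).2 hx]
  have hc : Nat.card (pairStab F u v ⊓ Lsub F : Subgroup PGL(2, F)) = 2 * k :=
    (pairStab_Lsub_spec hE hodd huv).1.trans hTuv
  set D : Subgroup PGL(2, F) := Y ⊓ (pairStab F u v ⊓ Lsub F) with hD
  have hz : Subgroup.zpowers t ≤ D :=
    Subgroup.zpowers_le.mpr ⟨ht, torus_le_pairStab u v htT, hY ht⟩
  have hsD : s ∈ D := ⟨hs, hsP, hY hs⟩
  obtain ⟨j, hj⟩ : k ∣ Nat.card D := htk ▸ Nat.card_zpowers t ▸ Subgroup.card_dvd_of_le hz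
  have hj2 : 2 ≤ j := by
    rcases (show j = 0 ∨ j = 1 ∨ 2 ≤ j by omega) with rfl | rfl | h
    · exact absurd (hj.trans (mul_zero k)) Nat.card_pos.ne'
    · have := Subgroup.eq_of_le_of_card_ge hz (le_of_eq (by rw [hj, mul_one, Nat.card_zpowers, htk]))
      exact absurd (this ▸ hsD) hsz
    · exact h
  have heq : D = pairStab F u v ⊓ Lsub F := Subgroup.eq_of_le_of_card_ge inf_le_right (by
    rw [hc, hj, mul_comm 2 k]; exact Nat.mul_le_mul_left k hj2)
  rw [← heq]
  exact inf_le_left

/-- Elements of order prime to `p` in a subfield subgroup have small order. -/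
theorem orderOf_subPGL_le {K : Subfield F} {g : PGL(2, F)} (hg : g ∈ subPGL K)
    (hp : Nat.Coprime (orderOf g) (Nat.card K)) : orderOf g ≤ Nat.card K + 1 := by
  classical
  haveI := Fintype.ofFinite K
  obtain ⟨E', _, _, _, hE'⟩ := exists_quadExt K
  obtain ⟨g', rfl⟩ := hg
  rw [orderOf_injective _ (pgl_map_injective K.subtype)] at hp ⊢
  obtain ⟨p', hp'⟩ := CharP.exists K
  haveI : Fact p'.Prime := ⟨CharP.char_is_prime K p'⟩
  obtain ⟨z, hz⟩ := (poles (F := K) (E := E') (p := p') hE').exists_fix g'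
  rw [Nat.card_eq_fintype_card] at hp ⊢
  by_cases hr : IsRat K z
  · obtain ⟨a, rfl⟩ := hr
    have hfix : g' ∈ stabilizer PGL(2, K) a := inc_injective (E := E') (by rw [inc_smul, hz])
    have h1 := Subgroup.orderOf_dvd_natCard _ hfix
    rw [card_stab_point] at h1
    have h2 := Nat.le_of_dvd (by have := Fintype.one_lt_card (α := K); omega) (hp.dvd_of_dvd_mul_left h1)
    omega
  · have h1 := Subgroup.orderOf_dvd_natCard _ (show g' ∈ stabilizer PGL(2, K) z from hz)
    rw [card_stab_nonrat hE' hr] at h1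
    exact Nat.le_of_dvd (by omega) h1

end Line

end Cfsg.Agent.Lib.PSLTwo
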