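import Cfsg.Agent.Lib.PSLTwo.Tools

/-! Overgroups in `PGL₂(q)` of subgroups fixing no point and no pair. -/

set_option autoImplicit false
set_option linter.unusedSectionVars false
set_option linter.style.haveILetI false
set_option linter.style.longLine false

open Matrix MulAction OnePoint
open scoped MatrixGroups

namespace Cfsg.Agent.Lib.PSLTwo

variable {F : Type*} [Field F] [Fintype F] [DecidableEq F]

/-- The part of Dickson's list that fixes no point and no pair. -/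
inductive Big (p : ℕ) (H : Subgroup PGL(2, F)) : Prop
  | altFour (hp : ¬ p ∣ 12) (hcard : Nat.card H = 12) (e : Nonempty (H ≃* alternatingGroup (Fin 4)))
  | symFour (hp : ¬ p ∣ 24) (hcard : Nat.card H = 24) (e : Nonempty (H ≃* Equiv.Perm (Fin 4)))
  | altFive (hp : ¬ p ∣ 60 ∨ p = 3) (hcard : Nat.card H = 60) (e : Nonempty (H ≃* alternatingGroup (Fin 5)))
  | subfield (K : Subfield F) (γ : PGL(2, F)) (hq : 3 ≤ Nat.card K)
      (h : H.map (MulAut.conj γ).toMonoidHom = subPGL K ∨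
        (Odd (Nat.card K) ∧ H.map (MulAut.conj γ).toMonoidHom = subPSL K))

section NoFix

variable {E : Type*} [Field E] [DecidableEq E] [Finite E] [Algebra F E] {p : ℕ} [Fact p.Prime] [CharP F p]

/-- No fixed point and no invariant pair on the line over `E`. -/
def NoFix (E : Type*) [Field E] [DecidableEq E] [Algebra F E] (H : Subgroup PGL(2, F)) : Prop :=
  (∀ z : OnePoint E, ¬ ∀ g ∈ H, g • z = z) ∧
    ∀ u v : OnePoint E, IsTorusPair F u v → ¬ H ≤ pairStab F u v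

theorem NoFix.mono {H X : Subgroup PGL(2, F)} (h : NoFix E H) (hX : H ≤ X) : NoFix E X :=
  ⟨fun z hz => h.1 z fun g hg => hz g (hX hg), fun u v huv hv => h.2 u v huv (hX.trans hv)⟩

theorem big_of_noFix (hE : Nat.card E = Fintype.card F ^ 2) {H : Subgroup PGL(2, F)} (h : NoFix E H) :
    Big p H := by
  rcases classify (p := p) hE H with ⟨a, ha⟩ | ⟨x, y, -, -, ha⟩ | ⟨x, y, hxy, k, -, -, -, ha, -, -⟩ |
    ⟨h1, h2, h3⟩ | ⟨h1, h2, h3⟩ | ⟨h1, h2, h3⟩ | ⟨K, γ, h1, h2⟩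
  · exact absurd (fun g hg => by rw [← inc_smul, ha hg]) (h.1 (inc E a))
  · exact absurd (fun g hg => (ha hg).1) (h.1 x)
  · exact absurd ha (h.2 x y hxy)
  · exact .altFour h1 h2 h3
  · exact .symFour h1 h2 h3
  · exact .altFive h1 h2 h3
  · exact .subfield K γ h1 h2

end NoFix

theorem card_conj_map {G : Type*} [Group G] (H : Subgroup G) (γ : G) :
    Nat.card (H.map (MulAut.conj γ).toMonoidHom) = Nat.card H :=
  Subgroup.card_map_of_injective (MulAut.conj γ).injective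

theorem conj_le_Lsub {H : Subgroup PGL(2, F)} (h : H ≤ Lsub F) (γ : PGL(2, F)) :
    H.map (MulAut.conj γ).toMonoidHom ≤ Lsub F := by
  rintro _ ⟨g, hg, rfl⟩
  exact (Lsub_normal (F := F)).conj_mem g (h hg) γ

/-- The orders of subfield subgroups. -/
theorem card_of_subfield {H : Subgroup PGL(2, F)} {K : Subfield F} {γ : PGL(2, F)}
    (h : H.map (MulAut.conj γ).toMonoidHom = subPGL K ∨
      (Odd (Nat.card K) ∧ H.map (MulAut.conj γ).toMonoidHom = subPSL K)) :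
    Nat.card H = Nat.card K * (Nat.card K ^ 2 - 1) ∨
      (Odd (Nat.card K) ∧ 2 * Nat.card H = Nat.card K * (Nat.card K ^ 2 - 1)) := by
  rcases h with h | ⟨ho, h⟩
  · exact Or.inl (by rw [← card_conj_map H γ, h, card_subPGL])
  · exact Or.inr ⟨ho, by rw [← card_conj_map H γ, h, two_mul_card_subPSL K ho]⟩

/-- Twice the order of `L`. -/
theorem two_card_L (hodd : Odd (Fintype.card F)) :
    2 * Nat.card (Lsub F) = Fintype.card F * (Fintype.card F ^ 2 - 1) := by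
  have h := card_Lsub_mul (F := F)
  have : Nat.gcd 2 (Fintype.card F - 1) = 2 := by
    obtain ⟨r, hr⟩ := hodd
    rw [hr, Nat.add_sub_cancel, Nat.gcd_mul_right_right]
  rwa [this] at h

/-- A subgroup of `L` of subfield type over the whole field is `L`. -/
theorem eq_Lsub_of_full {H : Subgroup PGL(2, F)} {K : Subfield F} {γ : PGL(2, F)} (hodd : Odd (Fintype.card F))
    (hle : H ≤ Lsub F) (hK : Nat.card K = Fintype.card F)
    (h : H.map (MulAut.conj γ).toMonoidHom = subPGL K ∨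
      (Odd (Nat.card K) ∧ H.map (MulAut.conj γ).toMonoidHom = subPSL K)) : H = Lsub F := by
  refine Subgroup.eq_of_le_of_card_ge hle ?_
  have hL := two_card_L hodd
  have hH := card_of_subfield h
  rw [hK] at hH
  rcases hH with e | ⟨-, e⟩ <;> omega

theorem nat_cube_mono {a b : ℕ} (h : a ≤ b) : a * (a ^ 2 - 1) ≤ b * (b ^ 2 - 1) :=
  Nat.mul_le_mul h (Nat.sub_le_sub_right (Nat.pow_le_pow_left h 2) 1)

theorem nat_cube_lt {a b : ℕ} (h : a < b) (hb : 2 ≤ b) : a * (a ^ 2 - 1) < b * (b ^ 2 - 1) := by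
  have h4 : 2 ^ 2 ≤ b ^ 2 := Nat.pow_le_pow_left hb 2
  rcases Nat.eq_zero_or_pos a with rfl | ha
  · simp only [zero_mul]
    exact Nat.mul_pos (by omega) (by norm_num at h4; omega)
  · have h1 : a ^ 2 < b ^ 2 := Nat.pow_lt_pow_left h (by norm_num)
    have h2 : 1 ≤ a ^ 2 := Nat.one_le_pow _ _ ha
    exact Nat.mul_lt_mul_of_lt_of_lt h (by omega)

theorem dvd_of_sq_sub_one_dvd {p a b : ℕ} (hp : 2 ≤ p) (ha : a ≠ 0)
    (h : p ^ (2 * a) - 1 ∣ 2 * (p ^ (2 * b) - 1)) : a ∣ b := by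
  have h1 : p ^ (2 * a) - 1 ∣ 2 * (p ^ (2 * Nat.gcd a b) - 1) := by
    rw [← Nat.gcd_mul_left 2 a b, ← Nat.pow_sub_one_gcd_pow_sub_one, ← Nat.gcd_mul_left]
    exact Nat.dvd_gcd (dvd_mul_left _ _) h
  have hd : Nat.gcd a b ∣ a := Nat.gcd_dvd_left a b
  by_contra hab
  obtain ⟨j, hj⟩ := hd
  have hj1 : j ≠ 1 := fun e => hab (by rw [hj, e, mul_one]; exact Nat.gcd_dvd_right a b)
  have hj0 : j ≠ 0 := fun e => ha (by rw [hj, e, mul_zero])
  have hd0 : Nat.gcd a b ≠ 0 := fun e => ha (by rw [hj, e, zero_mul])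
  set d := Nat.gcd a b
  have hle : p ^ (4 * d) ≤ p ^ (2 * a) :=
    Nat.pow_le_pow_right (by omega) (by rw [hj]; nlinarith [show 2 ≤ j by omega])
  have hd2 : 4 ≤ p ^ (2 * d) := le_trans (by norm_num)
    (le_trans (Nat.pow_le_pow_left hp 2) (Nat.pow_le_pow_right (by omega) (show 2 ≤ 2 * d by omega)))
  have hpos : 0 < 2 * (p ^ (2 * d) - 1) := by omega
  have h2 := Nat.le_of_dvd hpos h1
  rw [show 4 * d = 2 * d + 2 * d by ring, pow_add] at hle
  have : 4 * p ^ (2 * d) ≤ p ^ (2 * d) * p ^ (2 * d) := Nat.mul_le_mul_right _ hd2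
  omega

theorem coprime_sq_sub_one {p : ℕ} (hp : 2 ≤ p) {a : ℕ} (ha : a ≠ 0) (c : ℕ) :
    Nat.Coprime (p ^ (2 * a) - 1) (p ^ c) := by
  refine Nat.Coprime.pow_right _ ?_
  have h1 : p ∣ p ^ (2 * a) := dvd_pow_self _ (by omega)
  have h2 : 1 ≤ p ^ (2 * a) := Nat.one_le_pow _ _ (by omega)
  rw [Nat.coprime_comm]
  obtain ⟨k, hk⟩ := h1
  have : p.gcd (p ^ (2 * a) - 1) ∣ 1 := by
    have g1 := Nat.gcd_dvd_left p (p ^ (2 * a) - 1)
    have g2 := Nat.gcd_dvd_right p (p ^ (2 * a) - 1)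
    have := Nat.dvd_sub (dvd_trans g1 ⟨k, hk⟩) g2
    rwa [Nat.sub_sub_self h2] at this
  exact Nat.dvd_one.mp this

theorem mk_mem_subPGL {K : Subfield F} {g : GL (Fin 2) F}
    (h : ∀ i j, (g : Matrix (Fin 2) (Fin 2) F) i j ∈ K) : (ProjGenLinGroup.mk g : PGL(2, F)) ∈ subPGL K := by
  let M : Matrix (Fin 2) (Fin 2) K := fun i j => ⟨_, h i j⟩
  have hM : M.map K.subtype = (g : Matrix (Fin 2) (Fin 2) F) := by ext i j; rfl
  have hdet : M.det ≠ 0 := fun e => g.det_ne_zero (by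
    rw [← hM]
    show (K.subtype.mapMatrix M).det = 0
    rw [← RingHom.map_det, e, map_zero])
  refine ⟨ProjGenLinGroup.mk (GeneralLinearGroup.mkOfDetNeZero M hdet), ?_⟩
  rw [ProjGenLinGroup.map_mk]
  exact congrArg _ (Units.ext hM)

section Alt

variable {x y : F} (hxy : x ^ 2 + y ^ 2 = -1) (h2 : (2 : F) ≠ 0)

theorem qel_mem_subPGL {K : Subfield F} (hx : x ∈ K) (hy : y ∈ K) {a b c d : F} (ha : a ∈ K) (hb : b ∈ K)
    (hc : c ∈ K) (hd : d ∈ K) (h : a ^ 2 + b ^ 2 + c ^ 2 + d ^ 2 ≠ 0) : qel hxy a b c d h ∈ subPGL K := by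
  refine mk_mem_subPGL fun i j => ?_
  fin_cases i <;> fin_cases j <;>
    simp [qmat] <;> aesop (add safe apply [add_mem, sub_mem, mul_mem, neg_mem])

theorem qA_le_subPGL {K : Subfield F} (hx : x ∈ K) (hy : y ∈ K) : qA hxy h2 ≤ subPGL K := by
  have hI : qI hxy ∈ subPGL K := qel_mem_subPGL hxy hx hy (zero_mem K) (one_mem K) (zero_mem K) (zero_mem K) _
  have hJ : qJ hxy ∈ subPGL K := qel_mem_subPGL hxy hx hy (zero_mem K) (zero_mem K) (one_mem K) (zero_mem K) _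
  refine sup_le ?_ (Subgroup.zpowers_le.mpr ?_)
  · rintro g (rfl | rfl | rfl | rfl)
    · exact one_mem _
    · exact hI
    · exact hJ
    · rw [← qI_mul_qJ]; exact mul_mem hI hJ
  · exact qel_mem_subPGL hxy hx hy (neg_mem (one_mem K)) (one_mem K) (one_mem K) (one_mem K) _

theorem mem_qV_of_sq {g : PGL(2, F)} (hg : g ∈ qA hxy h2) (h : g * g = 1) : g ∈ qV hxy := by
  classical
  obtain ⟨e⟩ := qA_iso hxy h2
  obtain ⟨-, hc, hsq, -⟩ := klein_props hxy h2 (qV_le_qA hxy h2) (qA_le_qN hxy h2)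
  have hA : Nat.card {a : alternatingGroup (Fin 4) // a * a = 1} = 4 := by
    rw [Nat.card_eq_fintype_card]; decide
  have hS : Nat.card {a : qA hxy h2 // a * a = 1} = 4 := by
    rw [← hA]
    exact Nat.card_congr (e.toEquiv.subtypeEquiv fun a => by
      show a * a = 1 ↔ e a * e a = 1
      rw [← map_mul, MulEquiv.map_eq_one_iff])
  have heq : (((qV hxy).subgroupOf (qA hxy h2) : Subgroup (qA hxy h2)) : Set (qA hxy h2)) =
      {a : qA hxy h2 | a * a = 1} := by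
    refine Set.eq_of_subset_of_ncard_le (fun a ha => hsq a ha) ?_ (Set.toFinite _)
    rw [← Nat.card_coe_set_eq, ← Nat.card_coe_set_eq]
    exact (le_of_eq hS).trans (le_of_eq hc.symm)
  have : (⟨g, hg⟩ : qA hxy h2) ∈ {a : qA hxy h2 | a * a = 1} := Subtype.ext h
  rw [← heq] at this
  exact this

theorem le_qN_of_card {X : Subgroup PGL(2, F)} (hAX : qA hxy h2 ≤ X) (hc : Nat.card X = 24) :
    X ≤ qN hxy := by
  haveI : ((qA hxy h2).subgroupOf X).Normal := Subgroup.normal_of_index_eq_two (by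
    have := Subgroup.card_mul_index ((qA hxy h2).subgroupOf X)
    rw [Nat.card_congr (Subgroup.subgroupOfEquivOfLe hAX).toEquiv, card_qA, hc] at this
    omega)
  intro g hg
  have key : ∀ v ∈ qV hxy, v * v = 1 → g * v * g⁻¹ ∈ qV hxy := fun v hv hvv => by
    refine mem_qV_of_sq hxy h2 ?_ ?_
    · exact Subgroup.Normal.conj_mem (H := (qA hxy h2).subgroupOf X) inferInstance
        ⟨v, hAX (qV_le_qA hxy h2 hv)⟩ (qV_le_qA hxy h2 hv) ⟨g, hg⟩
    · rw [show g * v * g⁻¹ * (g * v * g⁻¹) = g * (v * v) * g⁻¹ by group, hvv, mul_one, mul_inv_cancel]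
  exact mem_qN_of hxy (key _ (Or.inr (Or.inl rfl)) (qI_sq hxy))
    (key _ (Or.inr (Or.inr (Or.inl rfl))) (qJ_sq hxy))

theorem eq_qN_of_card {X : Subgroup PGL(2, F)} (hAX : qA hxy h2 ≤ X) (hc : Nat.card X = 24) :
    X = qN hxy :=
  Subgroup.eq_of_le_of_card_ge (le_qN_of_card hxy h2 hAX hc) (le_of_eq (by rw [card_qN hxy h2, hc]))

end Alt

end Cfsg.Agent.Lib.PSLTwo
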