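import Cfsg.Agent.Lib.PSLTwo.RecogTwo

/-!
Numerical tools for the recognition of small `PSL(2,q)` by counting elements.
-/

set_option autoImplicit false

namespace Cfsg.Agent.Lib.PSLTwo

variable {G : Type*} [Group G] [Finite G]

theorem card_add_le_of_disjoint {α : Type*} [Finite α] {P Q R : α → Prop}
    (hPR : ∀ a, P a → R a) (hQR : ∀ a, Q a → R a) (hPQ : ∀ a, P a → Q a → False) :
    Nat.card {a // P a} + Nat.card {a // Q a} ≤ Nat.card {a // R a} := by
  rw [← Nat.card_sum]
  refine Nat.card_le_card_of_injective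
    (Sum.elim (fun a => ⟨a.1, hPR _ a.2⟩) (fun a => ⟨a.1, hQR _ a.2⟩)) ?_
  rintro (⟨a, ha⟩ | ⟨a, ha⟩) (⟨b, hb⟩ | ⟨b, hb⟩) e <;>
    simp only [Sum.elim_inl, Sum.elim_inr, Subtype.mk.injEq] at e <;> subst e
  · rfl
  · exact (hPQ a ha hb).elim
  · exact (hPQ a hb ha).elim
  · rfl

section Prime

variable {p : ℕ} [Fact p.Prime]

theorem le_centralizer_of_card_prime (P : Subgroup G) (hP : Nat.card P = p) :
    P ≤ Subgroup.centralizer (P : Set G) := by
  haveI := isCyclic_of_prime_card hP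
  letI := IsCyclic.commGroup (α := ↥P)
  intro x hx
  exact Subgroup.mem_centralizer_iff.2 fun y hy =>
    congrArg Subtype.val (mul_comm (⟨y, hy⟩ : ↥P) ⟨x, hx⟩)

/-- Orders of normaliser and centraliser of a Sylow subgroup of prime order in a simple group. -/
theorem sylow_prime_data [IsSimpleGroup G] (hG : ¬ IsMulCommutative G) (P : Sylow p G)
    (hP : Nat.card (P : Subgroup G) = p) :
    ∃ e : ℕ, 1 < e ∧ e ∣ p - 1 ∧ p ∣ Nat.card (Subgroup.centralizer ((P : Subgroup G) : Set G)) ∧
      Nat.card (Sylow p G) * (e * Nat.card (Subgroup.centralizer ((P : Subgroup G) : Set G))) =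
        Nat.card G := by
  have hp : p.Prime := Fact.out
  set N := Subgroup.normalizer ((P : Subgroup G) : Set G) with hN
  set C := Subgroup.centralizer ((P : Subgroup G) : Set G) with hC
  have hd : p ∣ Nat.card G := by
    have h := (P : Subgroup G).card_subgroup_dvd_card
    rwa [hP] at h
  haveI := isCyclic_of_prime_card hP
  let φ := (P : Subgroup G).normalizerMonoidHom
  have hker : φ.ker = C.subgroupOf N := Subgroup.normalizerMonoidHom_ker (H := (P : Subgroup G))
  have hk := Subgroup.card_dvd_of_injective _ (QuotientGroup.kerLift_injective φ)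
  rw [IsCyclic.card_mulAut, hP, Nat.totient_prime hp] at hk
  have hmul := Subgroup.card_eq_card_quotient_mul_card_subgroup φ.ker
  have hCN : C ≤ N := Subgroup.centralizer_le_normalizer _
  have hcard : Nat.card φ.ker = Nat.card C := by
    rw [hker]; exact Nat.card_congr (Subgroup.subgroupOfEquivOfLe hCN).toEquiv
  refine ⟨_, ?_, hk, ?_, ?_⟩
  · refine Nat.one_lt_iff_ne_zero_and_ne_one.2 ⟨Nat.card_pos.ne', fun h1 => ?_⟩
    rw [h1, one_mul, hcard] at hmul
    exact SmallSimple.not_normalizer_le_centralizer hG P hd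
      (le_of_eq (Subgroup.eq_of_le_of_card_ge hCN hmul.le).symm)
  · have h := Subgroup.card_dvd_of_le (le_centralizer_of_card_prime _ hP)
    rwa [hP] at h
  · rw [SmallSimple.card_sylow_eq_index P, ← hcard, ← hmul, ← hN, mul_comm, Subgroup.card_mul_index]

/-- An element of order `p` generates a Sylow subgroup of order `p`. -/
theorem exists_sylow_zpowers (hp1 : ∀ P : Sylow p G, Nat.card (P : Subgroup G) = p) {x : G}
    (hx : orderOf x = p) : ∃ P : Sylow p G, (P : Subgroup G) = Subgroup.zpowers x := by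
  obtain ⟨P, hP⟩ := (IsPGroup.of_card (p := p) (n := 1)
    (show Nat.card (Subgroup.zpowers x) = p ^ 1 by rw [Nat.card_zpowers, hx, pow_one])).exists_le_sylow
  exact ⟨P, (Subgroup.eq_of_le_of_card_ge hP (by rw [Nat.card_zpowers, hx, hp1])).symm⟩

theorem commute_dvd_centralizer (hp1 : ∀ P : Sylow p G, Nat.card (P : Subgroup G) = p) {c : ℕ}
    (hc : ∀ P : Sylow p G, Nat.card (Subgroup.centralizer ((P : Subgroup G) : Set G)) = c)
    {x y : G} (hx : orderOf x = p) (hxy : Commute x y) : orderOf y ∣ c := by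
  obtain ⟨P, hP⟩ := exists_sylow_zpowers hp1 hx
  have hy : y ∈ Subgroup.centralizer ((P : Subgroup G) : Set G) := by
    rw [Subgroup.mem_centralizer_iff, hP]
    rintro z ⟨i, rfl⟩
    exact (hxy.zpow_left i).eq
  rw [← hc P, ← Subgroup.orderOf_mk y hy]
  exact orderOf_dvd_natCard _

/-- The order of an element cannot be divisible by both `p` and `r`. -/
theorem not_dvd_both (hp1 : ∀ P : Sylow p G, Nat.card (P : Subgroup G) = p) {c r : ℕ}
    (hc : ∀ P : Sylow p G, Nat.card (Subgroup.centralizer ((P : Subgroup G) : Set G)) = c)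
    (hr : ¬ r ∣ c) {g : G} (hg : p ∣ orderOf g) : ¬ r ∣ orderOf g := fun h => by
  have hx := orderOf_pow_orderOf_div (orderOf_pos g).ne' hg
  exact hr (h.trans (commute_dvd_centralizer hp1 hc hx ((Commute.refl g).pow_left _)))

theorem dvd_of_pow_eq_one' {g : G} {m : ℕ} (hm : ∃ k, m = p ^ k) (hg1 : g ≠ 1) (hg : g ^ m = 1) :
    p ∣ orderOf g := by
  obtain ⟨k, rfl⟩ := hm
  obtain ⟨j, -, hj⟩ := (Nat.dvd_prime_pow (Fact.out : p.Prime)).1 (orderOf_dvd_of_pow_eq_one hg)
  rw [hj]
  refine dvd_pow_self p fun h0 => hg1 ?_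
  rw [h0, pow_zero] at hj
  exact orderOf_eq_one_iff.1 hj

theorem sylow_prime_TI (hp1 : ∀ P : Sylow p G, Nat.card (P : Subgroup G) = p)
    (P Q : Sylow p G) (g : G) (hg : g ≠ 1) (hP : g ∈ (P : Subgroup G)) (hQ : g ∈ (Q : Subgroup G)) :
    P = Q := by
  have ho : orderOf g = p := by
    have h : orderOf g ∣ p := by
      rw [← hp1 P, ← Subgroup.orderOf_mk g hP]; exact orderOf_dvd_natCard _
    exact ((Nat.dvd_prime Fact.out).1 h).resolve_left fun h1 => hg (orderOf_eq_one_iff.1 h1)
  refine Sylow.ext ?_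
  rw [← Subgroup.eq_of_le_of_card_ge (Subgroup.zpowers_le.2 hP) (by rw [Nat.card_zpowers, ho, hp1]),
    ← Subgroup.eq_of_le_of_card_ge (Subgroup.zpowers_le.2 hQ) (by rw [Nat.card_zpowers, ho, hp1])]

end Prime

theorem card_sylow_dvd {p : ℕ} [Fact p.Prime] {k m : ℕ} (h : Nat.card G = p ^ k * m) (hm : ¬ p ∣ m) :
    Nat.card (Sylow p G) ∣ m := by
  obtain ⟨P⟩ : Nonempty (Sylow p G) := inferInstance
  have h' := P.card_dvd_index
  have h'' := (P : Subgroup G).card_mul_index
  rw [SmallSimple.card_sylow_subgroup P h hm, h] at h''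
  rwa [Nat.eq_of_mul_eq_mul_left (pow_pos (Fact.out : p.Prime).pos k) h''] at h'

end Cfsg.Agent.Lib.PSLTwo
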