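import Cfsg.Agent.Lib.PSLTwo.ClassSizes

/-! Redundant Sylow subgroups of `PSL₂(q)` and `SL₂(q)`. -/

set_option autoImplicit false
set_option linter.unusedSectionVars false
set_option linter.style.haveILetI false
set_option linter.style.longLine false

open Matrix MulAction
open scoped MatrixGroups Pointwise

namespace Cfsg.Agent.Lib.PSLTwo

/-- `G` has a Sylow subgroup all of whose `p`-elements lie in other Sylow subgroups. -/
def Red (p : ℕ) (G : Type*) [Group G] : Prop :=
  ∃ Q : Sylow p G, ∀ x : G, (∃ k : ℕ, orderOf x = p ^ k) → ∃ P : Sylow p G, P ≠ Q ∧ x ∈ P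

section Abstract

variable {p : ℕ} [Fact p.Prime] {G H : Type*} [Group G] [Group H] [Finite G]

theorem isPElem_of_mem {P : Sylow p G} {x : G} (hx : x ∈ P) : ∃ k : ℕ, orderOf x = p ^ k := by
  obtain ⟨k, hk⟩ := IsPGroup.iff_orderOf.mp P.2 ⟨x, hx⟩
  exact ⟨k, by rw [← hk, Subgroup.orderOf_mk]⟩

theorem exists_sylow_of_pElem {x : G} (hx : ∃ k : ℕ, orderOf x = p ^ k) : ∃ P : Sylow p G, x ∈ P := by
  obtain ⟨k, hk⟩ := hx
  obtain ⟨P, hP⟩ := (IsPGroup.of_card (G := Subgroup.zpowers x) (p := p) (n := k)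
    (by rw [Nat.card_zpowers, hk])).exists_le_sylow
  exact ⟨P, hP (Subgroup.mem_zpowers x)⟩

/-- An element in only one Sylow subgroup rules out redundancy. -/
theorem not_red_of_unique {x : G} (hx : ∃ k : ℕ, orderOf x = p ^ k)
    (h : ∀ P P' : Sylow p G, x ∈ P → x ∈ P' → P = P') : ¬ Red p G := by
  rintro ⟨Q, hQ⟩
  obtain ⟨P₀, hP₀⟩ := exists_sylow_of_pElem hx
  obtain ⟨g, rfl⟩ := MulAction.exists_smul_eq G P₀ Q
  obtain ⟨P, hne, hP⟩ := hQ (g * x * g⁻¹) (by
    obtain ⟨k, hk⟩ := hx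
    exact ⟨k, by rw [← MulAut.conj_apply, MulEquiv.orderOf_eq, hk]⟩)
  refine hne ?_
  have h1 : x ∈ g⁻¹ • P := by
    show x ∈ ((g⁻¹ • P : Sylow p G) : Subgroup G)
    rw [Sylow.coe_subgroup_smul, Subgroup.mem_pointwise_smul_iff_inv_smul_mem]
    simp
    exact hP
  rw [h P₀ (g⁻¹ • P) hP₀ h1, smul_inv_smul]

/-- Redundancy passes through central quotients. -/
theorem red_iff_of_central [Finite H] {f : G →* H} (hf : Function.Surjective f)
    (hker : f.ker ≤ Subgroup.center G) : Red p G ↔ Red p H := by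
  have key : ∀ (P : Sylow p G) (x : G), (∃ k : ℕ, orderOf x = p ^ k) → f x ∈ (P : Subgroup G).map f → x ∈ P := by
    rintro P x ⟨k, hk⟩ ⟨y, hy, hyx⟩
    have hzc : y⁻¹ * x ∈ Subgroup.center G := hker (by rw [MonoidHom.mem_ker, map_mul, map_inv, hyx, inv_mul_cancel])
    obtain ⟨l, hl⟩ := isPElem_of_mem hy
    have hc : Commute y x := by
      have := Subgroup.mem_center_iff.mp hzc y
      rw [mul_assoc, mul_inv_cancel_left] at this
      have h2 := congrArg (y * ·) this
      simp only [mul_inv_cancel_left] at h2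
      exact h2
    have hz : (y⁻¹ * x) ^ p ^ (l + k) = 1 := by
      rw [hc.inv_left.mul_pow, inv_pow, orderOf_dvd_iff_pow_eq_one.mp (hl ▸ pow_dvd_pow p (Nat.le_add_right l k)),
        orderOf_dvd_iff_pow_eq_one.mp (hk ▸ pow_dvd_pow p (Nat.le_add_left k l)), inv_one, one_mul]
    have hzN : (Subgroup.zpowers (y⁻¹ * x)).Normal := ⟨fun a ha b => by
      have hac : a ∈ Subgroup.center G := (Subgroup.zpowers_le.mpr hzc) ha
      rw [Subgroup.mem_center_iff.mp hac b, mul_inv_cancel_right]; exact ha⟩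
    have hzp : IsPGroup p (Subgroup.zpowers (y⁻¹ * x)) := fun ⟨a, ha⟩ => by
      obtain ⟨i, rfl⟩ := Subgroup.mem_zpowers_iff.mp ha
      exact ⟨l + k, Subtype.ext (by rw [Subgroup.coe_pow, ← zpow_natCast, zpow_comm, zpow_natCast, hz, _root_.one_zpow, Subgroup.coe_one])⟩
    have := (P : Subgroup G).mul_mem hy
      ((haveI := hzN; hzp.le_sylow_of_normal P) (Subgroup.mem_zpowers (y⁻¹ * x)))
    rwa [mul_inv_cancel_left] at this
  have hinj : ∀ P P' : Sylow p G, Sylow.mapSurjective hf P = Sylow.mapSurjective hf P' → P = P' := by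
    intro P P' h
    refine Sylow.ext (P.3 P'.2 fun x hx => ?_).symm
    refine key P' x (isPElem_of_mem hx) ?_
    rw [← Sylow.coe_mapSurjective hf P', ← h, Sylow.coe_mapSurjective]
    exact Subgroup.mem_map_of_mem f hx
  constructor
  · rintro ⟨Q, hQ⟩
    refine ⟨Q.mapSurjective hf, fun y hy => ?_⟩
    obtain ⟨P', hP'⟩ := exists_sylow_of_pElem hy
    obtain ⟨P₁, rfl⟩ := Sylow.mapSurjective_surjective hf p P'
    replace hP' : _ ∈ ((P₁.mapSurjective hf : Sylow p H) : Subgroup H) := hP'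
    rw [Sylow.coe_mapSurjective] at hP'
    obtain ⟨x, hx, rfl⟩ := hP'
    obtain ⟨P, hne, hP⟩ := hQ x (isPElem_of_mem hx)
    exact ⟨P.mapSurjective hf, fun h => hne (hinj _ _ h), by
      show f x ∈ ((P.mapSurjective hf : Sylow p H) : Subgroup H)
      rw [Sylow.coe_mapSurjective]; exact Subgroup.mem_map_of_mem f hP⟩
  · rintro ⟨Q', hQ'⟩
    obtain ⟨Q, rfl⟩ := Sylow.mapSurjective_surjective hf p Q'
    refine ⟨Q, fun x hx => ?_⟩
    obtain ⟨P', hne, hP'⟩ := hQ' (f x) (by
      obtain ⟨k, hk⟩ := hx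
      obtain ⟨j, -, hj⟩ := (Nat.dvd_prime_pow (Fact.out : p.Prime)).mp (hk ▸ orderOf_map_dvd f x)
      exact ⟨j, hj⟩)
    obtain ⟨P, rfl⟩ := Sylow.mapSurjective_surjective hf p P'
    replace hP' : _ ∈ ((P.mapSurjective hf : Sylow p H) : Subgroup H) := hP'
    rw [Sylow.coe_mapSurjective] at hP'
    exact ⟨P, fun h => hne (by rw [h]), key P x hx hP'⟩

theorem red_congr [Finite H] (e : G ≃* H) : Red p G ↔ Red p H :=
  red_iff_of_central (f := e.toMonoidHom) e.surjective (by
    rw [(MonoidHom.ker_eq_bot_iff _).mpr e.injective]; exact bot_le)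

end Abstract

section PSL

variable {F : Type*} [Field F] [Fintype F] [DecidableEq F] {p : ℕ} [Fact p.Prime]

theorem coe_comm_mem {a b : Lsub F} (h : (b : PGL(2, F)) ∈ Subgroup.centralizer {(a : PGL(2, F))}) :
    b * a = a * b := Subtype.ext (Subgroup.mem_centralizer_singleton_iff.mp h)

/-- All cases apart from `p = 2`, `q` odd. -/
theorem not_red_of_ne (h : p ≠ 2 ∨ Even (Fintype.card F)) : ¬ Red p (Lsub F) := by
  obtain ⟨E, _, _, _, hE⟩ := exists_quadExt F
  classical
  haveI : Finite (Lsub F) := inferInstance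
  have habel : ∀ z : Lsub F, z ≠ 1 → (∃ k : ℕ, orderOf z = p ^ k) → ∀ a b : Lsub F,
      a * z = z * a → b * z = z * b → a * b = b * a := by
    intro z hz hzp a b ha hb
    refine Subtype.ext (cent_comm hE (g := (z : PGL(2, F))) (fun e => hz (Subtype.ext e)) (fun e => ?_)
      (Subgroup.mem_centralizer_singleton_iff.mpr (congrArg Subtype.val ha))
      (Subgroup.mem_centralizer_singleton_iff.mpr (congrArg Subtype.val hb)))
    refine h.resolve_left fun hp => ?_
    obtain ⟨k, hk⟩ := hzp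
    have h2 : orderOf z = 2 := orderOf_eq_prime (by rw [sq]; exact Subtype.ext e) hz
    have hd : 2 ∣ p ^ k := by rw [← hk, h2]
    exact hp ((Nat.prime_dvd_prime_iff_eq Nat.prime_two (Fact.out : p.Prime)).mp (Nat.prime_two.dvd_of_dvd_pow hd)).symm
  have hPab : ∀ P : Sylow p (Lsub F), ∀ a b : Lsub F, a ∈ P → b ∈ P → a * b = b * a := by
    intro P a b ha hb
    by_cases hP : ∀ z ∈ (P : Subgroup (Lsub F)), z = 1
    · rw [hP a ha, hP b hb]
    · push Not at hP
      obtain ⟨w, hw, hw1⟩ := hP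
      haveI : Nontrivial (P : Subgroup (Lsub F)) := ⟨⟨⟨w, hw⟩, 1, fun e => hw1 (congrArg Subtype.val e)⟩⟩
      haveI := P.2.center_nontrivial
      obtain ⟨⟨z, hz⟩, hz1⟩ := exists_ne (1 : Subgroup.center (P : Subgroup (Lsub F)))
      exact habel (z : Lsub F) (fun e => hz1 (Subtype.ext (Subtype.ext e))) (isPElem_of_mem z.2) a b
        (congrArg Subtype.val (Subgroup.mem_center_iff.mp hz ⟨a, ha⟩))
        (congrArg Subtype.val (Subgroup.mem_center_iff.mp hz ⟨b, hb⟩))
  by_cases hd : p ∣ Nat.card (Lsub F)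
  · obtain ⟨x, hx⟩ := exists_prime_orderOf_dvd_card' (G := Lsub F) p hd
    have hx1 : x ≠ 1 := fun e => by rw [e, orderOf_one] at hx; exact (Fact.out : p.Prime).one_lt.ne hx
    refine not_red_of_unique ⟨1, by rw [pow_one]; exact hx⟩ fun P P' hP hP' => ?_
    have hcm : ∀ a b : Lsub F, a ∈ P → b ∈ P' → a * b = b * a := fun a b ha hb =>
      habel x hx1 ⟨1, by rw [pow_one]; exact hx⟩ a b (hPab P a x ha hP) (hPab P' b x hb hP')
    have hsup : IsPGroup p ↥((P : Subgroup (Lsub F)) ⊔ P') :=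
      P.2.to_sup_of_normal_right' P'.2 (le_trans
        (fun a ha => Subgroup.mem_centralizer_iff.mpr fun b hb => (hcm a b ha hb).symm)
        (Subgroup.centralizer_le_normalizer _))
    exact Sylow.ext ((P.3 hsup le_sup_left).symm.trans (P'.3 hsup le_sup_right))
  · refine not_red_of_unique (x := 1) ⟨0, by simp⟩ fun P P' _ _ => Sylow.ext ?_
    have hb : ∀ R : Sylow p (Lsub F), (R : Subgroup (Lsub F)) = ⊥ := fun R => by
      obtain ⟨k, hk⟩ := IsPGroup.iff_card.mp R.2
      refine Subgroup.eq_bot_of_card_eq _ ?_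
      rcases k with _ | k
      · simpa using hk
      · exact absurd ((hk ▸ dvd_pow_self p k.succ_ne_zero : p ∣ Nat.card R).trans
          (Subgroup.card_subgroup_dvd_card _)) hd
    rw [hb, hb]

theorem sq_one_mem_torus {T : Subgroup PGL(2, F)} {n : ℕ} (hT : IsTorusSub T n) {u v : PGL(2, F)}
    (hu : u ∈ T) (hv : v ∈ T) (hu1 : u ≠ 1) (huu : u * u = 1) (hvv : v * v = 1) : v = 1 ∨ v = u := by
  classical
  haveI := hT.cyc
  haveI : Fintype T := Fintype.ofFinite T
  by_contra hne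
  push Not at hne
  have h2 := IsCyclic.card_pow_eq_one_le (α := T) two_pos
  have hsub : ({1, ⟨u, hu⟩, ⟨v, hv⟩} : Finset T) ⊆ (Finset.univ.filter fun a : T => a ^ 2 = 1) := by
    intro a ha
    simp only [Finset.mem_insert, Finset.mem_singleton] at ha
    refine Finset.mem_filter.mpr ⟨Finset.mem_univ _, ?_⟩
    rcases ha with rfl | rfl | rfl
    · exact one_pow 2
    · exact Subtype.ext (by simpa [sq] using huu)
    · exact Subtype.ext (by simpa [sq] using hvv)
  have h3 := (Finset.card_le_card hsub).trans h2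
  rw [Finset.card_insert_of_notMem (by simp [Subtype.ext_iff, Ne.symm hu1, Ne.symm hne.1]),
    Finset.card_pair (by simp [Subtype.ext_iff, Ne.symm hne.2])] at h3
  omega

theorem sq_one_of_odd {G : Type*} [Group G] {w : G} (hw : Odd (orderOf w)) (h : w * w = 1) : w = 1 := by
  have h1 : orderOf w ∣ 2 := orderOf_dvd_of_pow_eq_one (by rw [sq, h])
  rcases (Nat.dvd_prime Nat.prime_two).mp h1 with h2 | h2
  · exact orderOf_eq_one_iff.mp h2
  · rw [h2] at hw; exact absurd hw (by decide)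

/-- The case `p = 2` in odd characteristic. -/
theorem red_two (hodd : Odd (Fintype.card F)) (h3 : 3 ≤ Fintype.card F) {n : ℕ}
    (hn : n = Fintype.card F - 1 ∨ n = Fintype.card F + 1) (h4 : 4 ∣ n) :
    Red 2 (Lsub F) ↔ ¬ ∃ k : ℕ, n = 2 ^ k := by
  haveI : Fact (Nat.Prime 2) := ⟨Nat.prime_two⟩
  obtain ⟨E, _, _, _, hE⟩ := exists_quadExt F
  classical
  obtain ⟨c, hpc⟩ := CharP.exists F
  haveI : Fact c.Prime := ⟨CharP.char_is_prime F c⟩
  obtain ⟨T, hT⟩ : ∃ T : Subgroup PGL(2, F), IsTorusSub T n := by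
    rcases hn with rfl | rfl
    · exact exists_torus_minus hE
    · exact exists_torus_plus hE
  obtain ⟨a, ha, hao⟩ := exists_gen_inf hT
  have hm2 := inf_torus_card hT hodd
  have hn0 : 0 < n := by omega
  set m := orderOf a with hm
  have hmeven : 2 ∣ m := by omega
  set aL : Lsub F := ⟨a, ha.2⟩ with haL
  have haLo : orderOf aL = m := by rw [hm, haL, Subgroup.orderOf_mk]
  set t₀ : Lsub F := aL ^ (m / 2) with ht₀
  have ht₀o : orderOf t₀ = 2 := by
    rw [ht₀, ← haLo]
    exact orderOf_pow_orderOf_div (orderOf_pos aL).ne' (haLo ▸ hmeven)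
  have ht₀1 : (t₀ : PGL(2, F)) ≠ 1 := fun e => by
    have e' : t₀ = 1 := Subtype.ext e
    rw [e', orderOf_one] at ht₀o; omega
  have ht₀s : (t₀ : PGL(2, F)) * t₀ = 1 := by
    have := pow_orderOf_eq_one t₀
    rw [ht₀o, sq] at this
    exact congrArg Subtype.val this
  have ht₀T : (t₀ : PGL(2, F)) ∈ T := by rw [ht₀, Subgroup.coe_pow]; exact pow_mem ha.1 _
  obtain ⟨hTC, hCcard⟩ := (hT.cent _ ht₀T ht₀1).2 ht₀s
  have hidx : (T.subgroupOf (Subgroup.centralizer {(t₀ : PGL(2, F))})).index = 2 := by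
    have h1 := Subgroup.card_mul_index (T.subgroupOf (Subgroup.centralizer {(t₀ : PGL(2, F))}))
    rw [hCcard, Nat.card_congr (Subgroup.subgroupOfEquivOfLe hTC).toEquiv, hT.card, mul_comm 2 n] at h1
    exact Nat.eq_of_mul_eq_mul_left hn0 h1
  -- the centraliser of `t₀` inside `PSL₂`
  set D : Subgroup (Lsub F) := Subgroup.centralizer {t₀} with hD
  have hDmem : ∀ h : Lsub F, h ∈ D ↔ (h : PGL(2, F)) ∈ Subgroup.centralizer {(t₀ : PGL(2, F))} := fun h => by
    rw [hD, Subgroup.mem_centralizer_singleton_iff, Subgroup.mem_centralizer_singleton_iff, ← Subgroup.coe_mul,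
      ← Subgroup.coe_mul, Subtype.coe_inj]
  have hDcard : Nat.card D = n := by
    obtain ⟨t, htT, htL⟩ := hT.notL hodd
    have h1 := card_inf_Lsub hodd (T := Subgroup.centralizer {(t₀ : PGL(2, F))}) ⟨t, hTC htT, htL⟩
    have h2 : Nat.card D = Nat.card (Subgroup.centralizer {(t₀ : PGL(2, F))} ⊓ Lsub F : Subgroup PGL(2, F)) :=
      Nat.card_congr ⟨fun h => ⟨h.1.1, (hDmem h.1).mp h.2, h.1.2⟩,
        fun h => ⟨⟨h.1, h.2.2⟩, (hDmem _).mpr h.2.1⟩, fun _ => rfl, fun _ => rfl⟩
    omega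
  obtain ⟨v, o, ho, hno⟩ := Nat.exists_eq_two_pow_mul_odd (n := n) (by omega)
  have hLcard : ∃ w : ℕ, Odd w ∧ Nat.card (Lsub F) = 2 ^ v * w := by
    have h2L := card_Lsub (F := F) ▸ Cfsg.Agent.Lib.Classical.two_mul_card_PSL_two_of_odd hodd
    obtain ⟨r, hr⟩ : ∃ r, Fintype.card F = 2 * r + 1 := ⟨Fintype.card F / 2, by obtain ⟨i, hi⟩ := hodd; omega⟩
    have e : (2 * r + 1) ^ 2 - 1 = 4 * (r * (r + 1)) := by
      rw [show (2 * r + 1) ^ 2 = 4 * (r * (r + 1)) + 1 by ring, Nat.add_sub_cancel]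
    rw [hr, e] at h2L
    rcases hn with hn' | hn'
    · refine ⟨Fintype.card F * o * (r + 1), ?_, ?_⟩
      · refine (hodd.mul ho).mul (Nat.odd_iff.mpr ?_); omega
      · have h6 : 2 ^ v * o = 2 * r := by omega
        have : 2 * Nat.card (Lsub F) = 2 * (2 ^ v * (Fintype.card F * o * (r + 1))) := by
          rw [h2L, hr, show 2 ^ v * ((2 * r + 1) * o * (r + 1)) = (2 ^ v * o) * ((2 * r + 1) * (r + 1)) by ring, h6]
          ring
        omega
    · refine ⟨Fintype.card F * o * r, ?_, ?_⟩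
      · refine (hodd.mul ho).mul (Nat.odd_iff.mpr ?_); omega
      · have h6 : 2 ^ v * o = 2 * (r + 1) := by omega
        have : 2 * Nat.card (Lsub F) = 2 * (2 ^ v * (Fintype.card F * o * r)) := by
          rw [h2L, hr, show 2 ^ v * ((2 * r + 1) * o * r) = (2 ^ v * o) * ((2 * r + 1) * r) by ring, h6]
          ring
        omega
  have hsyl : ∀ P : Sylow 2 (Lsub F), Nat.card (P : Subgroup (Lsub F)) = 2 ^ v := by
    intro P
    obtain ⟨w, hw, hwc⟩ := hLcard
    rw [Sylow.card_eq_multiplicity, hwc, Nat.factorization_mul (by positivity) (Nat.ne_of_odd_add (by simpa using hw)),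
      Nat.prime_two.factorization_pow]
    simp [Nat.factorization_eq_zero_of_not_dvd (fun h => Nat.not_even_iff_odd.mpr hw (even_iff_two_dvd.mpr h))]
  have hconjfix : ∀ (h : PGL(2, F)), h * t₀ * h⁻¹ ∈ T → h * t₀ * h⁻¹ = t₀ := fun h hh =>
    (sq_one_mem_torus hT ht₀T hh ht₀1 ht₀s (by
      rw [show h * t₀ * h⁻¹ * (h * t₀ * h⁻¹) = h * ((t₀ : PGL(2, F)) * t₀) * h⁻¹ by group, ht₀s, mul_one,
        mul_inv_cancel])).resolve_left fun e => ht₀1 (conj_eq_one_iff.mp e)
  constructor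
  · rintro hred ⟨k, hk⟩
    have hov : o = 1 := by
      by_contra hne
      have hd : o ∣ 2 ^ k := hk ▸ hno ▸ dvd_mul_left o _
      obtain ⟨j, -, rfl⟩ := (Nat.dvd_prime_pow Nat.prime_two).mp hd
      rcases j with _ | j
      · simp at hne
      · exact Nat.not_even_iff_odd.mpr ho (Nat.even_pow.mpr ⟨even_two, j.succ_ne_zero⟩)
    rw [hov, mul_one] at hno
    obtain ⟨j, rfl⟩ : ∃ j, v = j + 1 := by
      rcases v with _ | v
      · rw [pow_zero] at hno; omega
      · exact ⟨v, rfl⟩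
    have hmj : m = 2 ^ j := by rw [pow_succ] at hno; omega
    refine not_red_of_unique (x := aL) ⟨j, by rw [haLo, hmj]⟩ (fun P P' hP hP' => ?_) hred
    have key : ∀ R : Sylow 2 (Lsub F), aL ∈ R → (R : Subgroup (Lsub F)) = D := by
      intro R hR
      have hUR : Subgroup.zpowers aL ≤ (R : Subgroup (Lsub F)) := Subgroup.zpowers_le.mpr hR
      have hUi : ((Subgroup.zpowers aL).subgroupOf (R : Subgroup (Lsub F))).index = 2 := by
        have h1 := Subgroup.card_mul_index ((Subgroup.zpowers aL).subgroupOf (R : Subgroup (Lsub F)))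
        rw [Nat.card_congr (Subgroup.subgroupOfEquivOfLe hUR).toEquiv, Nat.card_zpowers, haLo, hsyl,
          hmj, pow_succ] at h1
        exact Nat.eq_of_mul_eq_mul_left (by positivity) h1
      haveI := Subgroup.normal_of_index_eq_two hUi
      refine Subgroup.eq_of_le_of_card_ge (fun h hh => (hDmem h).mpr ?_) (by rw [hsyl, hDcard, hno])
      have hmem : (⟨t₀, hUR (pow_mem (Subgroup.mem_zpowers aL) _)⟩ : (R : Subgroup (Lsub F))) ∈
          (Subgroup.zpowers aL).subgroupOf (R : Subgroup (Lsub F)) := pow_mem (Subgroup.mem_zpowers aL) _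
      have hc := ‹((Subgroup.zpowers aL).subgroupOf (R : Subgroup (Lsub F))).Normal›.conj_mem _ hmem ⟨h, hh⟩
      obtain ⟨i, hi⟩ := Subgroup.mem_zpowers_iff.mp (Subgroup.mem_subgroupOf.mp hc)
      have := hconjfix h (by
        have : (h : PGL(2, F)) * t₀ * (h : PGL(2, F))⁻¹ = a ^ i := (congrArg Subtype.val hi).symm
        rw [this]; exact zpow_mem (show a ∈ T from ha.1) i)
      refine Subgroup.mem_centralizer_singleton_iff.mpr ?_
      calc (h : PGL(2, F)) * t₀ = (h : PGL(2, F)) * t₀ * (h : PGL(2, F))⁻¹ * h := by rw [inv_mul_cancel_right]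
        _ = t₀ * h := by rw [this]
    exact Sylow.ext ((key P hP).trans (key P' hP').symm)
  · intro hnp
    have ho1 : o ≠ 1 := fun e => hnp ⟨v, by rw [hno, e, mul_one]⟩
    obtain ⟨l, hl, hlo⟩ := Nat.exists_prime_and_dvd ho1
    haveI : Fact l.Prime := ⟨hl⟩
    have hlodd : Odd l := Odd.of_dvd_nat ho hlo
    have hln : l ∣ n := hno ▸ dvd_mul_of_dvd_right hlo _
    have hlm : l ∣ m := by
      have : l ∣ 2 * m := by rw [hao, hm2]; exact hln
      exact ((Nat.coprime_two_right.mpr hlodd).dvd_of_dvd_mul_left this)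
    obtain ⟨Q', hQ'⟩ := Sylow.exists_subgroup_card_pow_prime 2 (G := D) (n := v)
      (hDcard ▸ hno ▸ dvd_mul_right _ _)
    have hQmc : Nat.card (Q'.map D.subtype) = 2 ^ v := by
      rw [Nat.card_congr (Q'.equivMapOfInjective _ D.subtype_injective).toEquiv.symm, hQ']
    obtain ⟨Q, hQ⟩ := (IsPGroup.of_card hQmc).exists_le_sylow
    have hQeq : (Q : Subgroup (Lsub F)) = Q'.map D.subtype :=
      (Subgroup.eq_of_le_of_card_ge hQ (by rw [hsyl, hQmc])).symm
    have hQD : (Q : Subgroup (Lsub F)) ≤ D := hQeq ▸ Subgroup.map_subtype_le _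
    have hQC : ∀ h ∈ (Q : Subgroup (Lsub F)), (h : PGL(2, F)) ∈ Subgroup.centralizer {(t₀ : PGL(2, F))} :=
      fun h hh => (hDmem h).mp (hQD hh)
    have ht₀Q : t₀ ∈ (Q : Subgroup (Lsub F)) := by
      have hp : IsPGroup 2 (Subgroup.zpowers t₀) :=
        IsPGroup.of_card (n := 1) (by rw [Nat.card_zpowers, ht₀o, pow_one])
      have hle : (Q : Subgroup (Lsub F)) ≤ Subgroup.normalizer ((Subgroup.zpowers t₀ : Subgroup (Lsub F)) : Set (Lsub F)) := by
        refine le_trans (fun h hh => Subgroup.mem_centralizer_iff.mpr fun b hb => ?_) (Subgroup.centralizer_le_normalizer _)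
        obtain ⟨i, rfl⟩ := Subgroup.mem_zpowers_iff.mp hb
        exact (Commute.zpow_left (Subgroup.mem_centralizer_singleton_iff.mp (hQD hh)).symm i)
      exact (Q.3 (Q.2.to_sup_of_normal_right' hp hle) le_sup_left) ▸
        Subgroup.mem_sup_right (Subgroup.mem_zpowers t₀)
    refine ⟨Q, fun x hx => ?_⟩
    by_cases hxQ : x ∈ Q
    swap
    · obtain ⟨P, hP⟩ := exists_sylow_of_pElem hx
      exact ⟨P, fun e => hxQ (e ▸ hP), hP⟩
    suffices ∃ w : Lsub F, w * x = x * w ∧ w ∉ Subgroup.normalizer (((Q : Subgroup (Lsub F))) : Set (Lsub F)) by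
      obtain ⟨w, hwx, hwN⟩ := this
      refine ⟨w • Q, fun e => hwN (Sylow.smul_eq_iff_mem_normalizer.mp e), ?_⟩
      show x ∈ ((w • Q : Sylow 2 (Lsub F)) : Subgroup (Lsub F))
      rw [Sylow.coe_subgroup_smul, Subgroup.mem_pointwise_smul_iff_inv_smul_mem]
      have : w⁻¹ * x * w = x := by rw [mul_assoc, ← hwx, inv_mul_cancel_left]
      simp [this]
      exact hxQ
    by_cases hxT : (x : PGL(2, F)) ∈ T
    · obtain ⟨z, hzm, hzo⟩ : ∃ z ∈ Subgroup.zpowers aL, orderOf z = l :=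
        ⟨aL ^ (m / l), pow_mem (Subgroup.mem_zpowers _) _,
          haLo ▸ orderOf_pow_orderOf_div (orderOf_pos aL).ne' (haLo ▸ hlm)⟩
      have hzT : (z : PGL(2, F)) ∈ T := by
        obtain ⟨i, rfl⟩ := Subgroup.mem_zpowers_iff.mp hzm
        exact zpow_mem (show a ∈ T from ha.1) i
      refine ⟨z, ?_, fun hN => ?_⟩
      · haveI := hT.cyc
        letI := IsCyclic.commGroup (α := T)
        exact Subtype.ext (congrArg (fun y : T => (y : PGL(2, F))) (mul_comm (⟨_, hzT⟩ : T) ⟨_, hxT⟩))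
      obtain ⟨s, hsQ, hsT⟩ : ∃ s ∈ (Q : Subgroup (Lsub F)), (s : PGL(2, F)) ∉ T := by
        by_contra hall
        push Not at hall
        have hle : (Q : Subgroup (Lsub F)).map (Lsub F).subtype ≤ T ⊓ Lsub F := by
          rintro _ ⟨s, hs, rfl⟩; exact ⟨hall s hs, s.2⟩
        have hd := Subgroup.card_dvd_of_le hle
        rw [Nat.card_congr ((Q : Subgroup (Lsub F)).equivMapOfInjective _ (Lsub F).subtype_injective).toEquiv.symm,
          hsyl] at hd
        obtain ⟨e, he⟩ := hd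
        have : 2 ^ v * o = 2 ^ v * (2 * e) := by rw [← hno, ← hm2, he]; ring
        exact Nat.not_even_iff_odd.mpr ho ⟨e, by rw [Nat.eq_of_mul_eq_mul_left (by positivity) this]; ring⟩
      obtain ⟨hss, hinv⟩ := hT.swap _ ht₀T ht₀1 _ (hQC s hsQ) hsT
      have h1 : z * s * z⁻¹ = z * z * s := by
        refine Subtype.ext ?_
        have h2 := hinv _ hzT
        push_cast
        rw [← h2]
        rw [show (z : PGL(2, F)) * s * (s * z * s) = z * ((s : PGL(2, F)) * s) * z * s by group, hss, mul_one]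
      have h2 : z * z ∈ (Q : Subgroup (Lsub F)) := by
        have h3 := ((Subgroup.mem_normalizer_iff.mp hN) s).mp hsQ
        rw [h1] at h3
        exact ((Q : Subgroup (Lsub F)).mul_mem_cancel_right hsQ).mp h3
      obtain ⟨i, hi⟩ := isPElem_of_mem h2
      have h4 : orderOf (z * z) ∣ l := hzo ▸ orderOf_dvd_of_pow_eq_one (by
        rw [← sq, ← pow_mul, mul_comm, pow_mul, pow_orderOf_eq_one, one_pow])
      rw [hi] at h4
      have h5 : i = 0 := by
        by_contra hne
        exact Nat.not_even_iff_odd.mpr hlodd (even_iff_two_dvd.mpr ((dvd_pow_self 2 hne).trans h4))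
      rw [h5, pow_zero, orderOf_eq_one_iff] at hi
      have := sq_one_of_odd (hzo ▸ hlodd) hi
      rw [this, orderOf_one] at hzo
      exact hl.one_lt.ne hzo
    · obtain ⟨hxx, hinv⟩ := hT.swap _ ht₀T ht₀1 _ (hQC x hxQ) hxT
      have hx1 : (x : PGL(2, F)) ≠ 1 := fun e => hxT (e ▸ one_mem T)
      have hcx : Nat.card (Subgroup.centralizer {(x : PGL(2, F))} ⊓ Lsub F : Subgroup PGL(2, F)) = n := by
        rcases kinds (p := c) hE hx1 with ⟨hxc, -, -⟩ | ⟨T', n', hxT', hT', hn'⟩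
        · exfalso
          have h1 : orderOf (x : PGL(2, F)) ∣ c := orderOf_dvd_of_pow_eq_one hxc
          rw [orderOf_eq_prime (p := 2) (by rw [sq, hxx]) hx1,
            Nat.prime_dvd_prime_iff_eq Nat.prime_two (Fact.out : c.Prime)] at h1
          obtain ⟨i, -, hi⟩ := FiniteField.card F c
          rw [hi, ← h1] at hodd
          exact absurd hodd (Nat.not_odd_iff_even.mpr (Nat.even_pow.mpr ⟨even_two, i.pos.ne'⟩))
        · obtain ⟨hle, hc⟩ := (hT'.cent _ hxT' hx1).2 hxx
          obtain ⟨t, htT, htL⟩ := hT'.notL hodd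
          have h1 := card_inf_Lsub hodd (T := Subgroup.centralizer {(x : PGL(2, F))}) ⟨t, hle htT, htL⟩
          have h2 := inf_torus_card hT' hodd
          have h5 := Subgroup.orderOf_dvd_natCard _ (Subgroup.mem_inf.mpr ⟨hxT', x.2⟩)
          rw [orderOf_eq_prime (p := 2) (by rw [sq, hxx]) hx1] at h5
          omega
      obtain ⟨⟨w', hw'⟩, hwo⟩ := exists_prime_orderOf_dvd_card'
        (G := (Subgroup.centralizer {(x : PGL(2, F))} ⊓ Lsub F : Subgroup PGL(2, F))) l (hcx ▸ hln)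
      rw [Subgroup.orderOf_mk] at hwo
      have hwc : w' * x = x * w' := Subgroup.mem_centralizer_singleton_iff.mp hw'.1
      set w : Lsub F := ⟨w', hw'.2⟩ with hw
      refine ⟨w, Subtype.ext hwc, fun hN => ?_⟩
      have hconj : ∀ s, s ∈ (Q : Subgroup (Lsub F)) → w * s * w⁻¹ ∈ (Q : Subgroup (Lsub F)) :=
        fun s hs => ((Subgroup.mem_normalizer_iff.mp hN) s).mp hs
      set t₁ : PGL(2, F) := w' * t₀ * w'⁻¹ with ht₁
      have ht₁C : t₁ ∈ Subgroup.centralizer {(t₀ : PGL(2, F))} := hQC _ (hconj t₀ ht₀Q)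
      have ht₁s : t₁ * t₁ = 1 := by
        rw [ht₁, show w' * t₀ * w'⁻¹ * (w' * t₀ * w'⁻¹) = w' * ((t₀ : PGL(2, F)) * t₀) * w'⁻¹ by group, ht₀s,
          mul_one, mul_inv_cancel]
      have hxfix : w' * x * w'⁻¹ = x := by rw [hwc, mul_inv_cancel_right]
      have hcase : t₁ = t₀ ∨ t₁ = x * t₀ := by
        by_cases h1 : t₁ ∈ T
        · exact Or.inl (hconjfix w' h1)
        · right
          have hxC := hQC x hxQ
          have hprod : (x : PGL(2, F)) * t₁ ∈ T := by
            have := (Subgroup.mul_mem_iff_of_index_two hidx (a := ⟨_, hxC⟩) (b := ⟨_, ht₁C⟩))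
            simp only [Subgroup.mem_subgroupOf, Subgroup.coe_mul] at this
            exact this.mpr (iff_of_false hxT h1)
          have hcomm : (x : PGL(2, F)) * t₁ = t₁ * x := by
            have h6 : (x : PGL(2, F)) * t₀ = t₀ * x := Subgroup.mem_centralizer_singleton_iff.mp hxC
            calc (x : PGL(2, F)) * t₁ = (w' * x * w'⁻¹) * t₁ := by rw [hxfix]
              _ = w' * ((x : PGL(2, F)) * t₀) * w'⁻¹ := by rw [ht₁]; group
              _ = w' * ((t₀ : PGL(2, F)) * x) * w'⁻¹ := by rw [h6]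
              _ = t₁ * (w' * x * w'⁻¹) := by rw [ht₁]; group
              _ = t₁ * x := by rw [hxfix]
          have hsq : (x : PGL(2, F)) * t₁ * (x * t₁) = 1 := by
            calc (x : PGL(2, F)) * t₁ * (x * t₁) = x * (t₁ * x) * t₁ := by group
              _ = x * (x * t₁) * t₁ := by rw [← hcomm]
              _ = (x * x : PGL(2, F)) * (t₁ * t₁) := by group
              _ = 1 := by rw [hxx, ht₁s, mul_one]
          rcases sq_one_mem_torus hT ht₀T hprod ht₀1 ht₀s hsq with h7 | h7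
          · exfalso
            have : t₁ = (x : PGL(2, F)) := (mul_eq_one_iff_inv_eq.mp h7).symm.trans (inv_eq_of_mul_eq_one_right hxx)
            have h8 : (t₀ : PGL(2, F)) = x := by
              have h9 : w' * t₀ * w'⁻¹ = w' * x * w'⁻¹ := by rw [hxfix, ← this]
              exact mul_left_cancel (mul_right_cancel h9)
            exact hxT (h8 ▸ ht₀T)
          · rw [← h7, ← mul_assoc, hxx, one_mul]
      have hw2 : w' * w' * t₀ * (w' * w')⁻¹ = (t₀ : PGL(2, F)) := by
        rw [show w' * w' * t₀ * (w' * w')⁻¹ = w' * (w' * t₀ * w'⁻¹) * w'⁻¹ by group, ← ht₁]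
        rcases hcase with h | h
        · rw [h, ← ht₁, h]
        · rw [h, show w' * ((x : PGL(2, F)) * t₀) * w'⁻¹ = (w' * x * w'⁻¹) * (w' * t₀ * w'⁻¹) by group,
            hxfix, ← ht₁, h, ← mul_assoc, hxx, one_mul]
      have hw2C : w' * w' ∈ Subgroup.centralizer {(t₀ : PGL(2, F))} :=
        Subgroup.mem_centralizer_singleton_iff.mpr (mul_inv_eq_iff_eq_mul.mp hw2)
      have hwC : w' ∈ Subgroup.centralizer {(t₀ : PGL(2, F))} := by
        obtain ⟨i, hi⟩ := hlodd
        have : w' = (w' * w') ^ (i + 1) := by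
          rw [← sq, ← pow_mul, show 2 * (i + 1) = l + 1 by omega, pow_succ, ← hwo, pow_orderOf_eq_one, one_mul]
        rw [this]; exact pow_mem hw2C _
      have hwne : w' * w' ≠ 1 := fun e => by
        have := sq_one_of_odd (hwo ▸ hlodd) e
        rw [this, orderOf_one] at hwo
        exact hl.one_lt.ne hwo
      by_cases hwT : w' ∈ T
      · refine hwne ?_
        have h9 := hinv w' hwT
        rw [← hwc, mul_assoc, hxx, mul_one] at h9
        exact mul_eq_one_iff_eq_inv.mpr h9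
      · exact hwne (hT.swap _ ht₀T ht₀1 _ hwC hwT).1

theorem red_lsub_iff : Red p (Lsub F) ↔
    (p = 2 ∧ (¬ ∃ k : ℕ, Fintype.card F + 1 = 2 ^ k) ∧ (¬ ∃ k : ℕ, Fintype.card F = 2 ^ k) ∧
      ¬ ∃ k : ℕ, Fintype.card F = 2 ^ k + 1) := by
  by_cases h : p ≠ 2 ∨ Even (Fintype.card F)
  · refine iff_of_false (not_red_of_ne h) fun ⟨hp, _, hpow, _⟩ => hpow ?_
    obtain ⟨c, hc⟩ := CharP.exists F
    obtain ⟨k, hk, hk'⟩ := FiniteField.card F c
    have he := h.resolve_left (not_not_intro hp)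
    rw [hk', Nat.even_pow] at he
    exact ⟨k, by rw [hk', (hk.even_iff).mp he.1]⟩
  · push Not at h
    obtain ⟨rfl, hne⟩ := h
    have hodd : Odd (Fintype.card F) := Nat.not_even_iff_odd.mp hne
    have h3 : 3 ≤ Fintype.card F := by
      have h1 := two_le_card (F := F)
      obtain ⟨i, hi⟩ := hodd
      omega
    obtain ⟨i, hi⟩ := hodd
    have hev : ∀ k, 2 ^ k + 1 = Fintype.card F ∨ 2 ^ k = Fintype.card F + 1 → ∃ l, k = l + 1 := by
      intro k hk
      rcases k with _ | k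
      · simp at hk; omega
      · exact ⟨k, rfl⟩
    have hno : ¬ ∃ k : ℕ, Fintype.card F = 2 ^ k := by
      rintro ⟨k, hk⟩
      rcases k with _ | k
      · simp at hk; omega
      · rw [pow_succ] at hk; omega
    by_cases h4 : Fintype.card F % 4 = 1
    · rw [red_two ⟨i, hi⟩ h3 (Or.inl rfl) (by omega)]
      constructor
      · refine fun hn => ⟨rfl, ?_, hno, fun ⟨k, hk⟩ => hn ⟨k, by omega⟩⟩
        rintro ⟨k, hk⟩
        rcases k with _ | _ | k
        · simp at hk
        · simp at hk; omega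
        · rw [pow_succ, pow_succ] at hk; omega
      · rintro ⟨-, -, -, h1⟩ ⟨k, hk⟩
        exact h1 ⟨k, by omega⟩
    · rw [red_two ⟨i, hi⟩ h3 (Or.inr rfl) (by omega)]
      constructor
      · refine fun hn => ⟨rfl, fun ⟨k, hk⟩ => hn ⟨k, by omega⟩, hno, ?_⟩
        rintro ⟨k, hk⟩
        rcases k with _ | _ | k
        · simp at hk; omega
        · simp at hk; exact hn ⟨2, by omega⟩
        · rw [pow_succ, pow_succ] at hk; omega
      · rintro ⟨-, h1, -, -⟩ ⟨k, hk⟩
        exact h1 ⟨k, hk⟩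

end PSL

end Cfsg.Agent.Lib.PSLTwo
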