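import Cfsg.Agent.Lib.PSLTwo.Over

/-! Setup for subfield subgroups of prime index degree. -/

set_option autoImplicit false
set_option linter.unusedSectionVars false
set_option linter.style.haveILetI false
set_option linter.style.longLine false

open Matrix MulAction OnePoint
open scoped MatrixGroups

namespace Cfsg.Agent.Lib.PSLTwo

theorem subfield_setup {F K : Type*} [Field F] [Fintype F] [Field K] [Fintype K] {q r : ℕ}
    (hK : Fintype.card K = q) (hF : Fintype.card F = q ^ r) (hr : r ≠ 0) :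
    ∃ (p : ℕ) (_ : Fact p.Prime) (_ : CharP F p) (a : ℕ) (K' : Subfield F),
      a ≠ 0 ∧ q = p ^ a ∧ Nat.card K' = q ∧ Fintype.card F = p ^ (a * r) ∧ Nonempty (K ≃+* K') := by
  classical
  obtain ⟨p, hpK⟩ := CharP.exists K
  haveI : Fact p.Prime := ⟨CharP.char_is_prime K p⟩
  obtain ⟨a, -, ha⟩ := FiniteField.card K p
  rw [hK] at ha
  have hF' : Fintype.card F = p ^ ((a : ℕ) * r) := by rw [hF, ha, ← pow_mul]
  haveI : CharP F p := charP_of_card_eq_prime_pow hF'
  obtain ⟨K', hK'⟩ := exists_subfield p hF' (dvd_mul_right (a : ℕ) r) a.pos.ne'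
  haveI := Fintype.ofFinite K'
  refine ⟨p, inferInstance, inferInstance, a, K', a.pos.ne', ha, by rw [hK', ha], hF', ?_⟩
  exact ⟨FiniteField.ringEquivOfCardEq (by rw [hK, ha, ← hK', Nat.card_eq_fintype_card])⟩

/-- A subfield whose group order is divisible by that of a smaller one. -/
theorem exponent_dvd {F : Type*} [Field F] [Fintype F] {p a r c : ℕ} [Fact p.Prime] [CharP F p]
    (ha : a ≠ 0) (hF : Fintype.card F = p ^ (a * r)) (hr : r.Prime) (K : Subfield F) (hc : c ∣ 2)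
    (h : (p ^ a) * ((p ^ a) ^ 2 - 1) ∣ c * (Nat.card K * (Nat.card K ^ 2 - 1))) :
    Nat.card K = p ^ a ∨ Nat.card K = Fintype.card F := by
  have hp := (Fact.out : p.Prime)
  obtain ⟨b, hb, hKb⟩ := card_subfield_eq_pow p K
  obtain ⟨m, hm, hm'⟩ := exists_card_pow K
  rw [hKb, hF, ← pow_mul] at hm'
  have hnm : a * r = b * m := Nat.pow_right_injective hp.two_le hm'
  rw [hKb] at h
  have h1 : p ^ (2 * a) - 1 ∣ 2 * (p ^ (2 * b) - 1) := by
    have h' := dvd_trans (dvd_mul_left ((p ^ a) ^ 2 - 1) (p ^ a)) h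
    rw [← pow_mul, ← pow_mul, mul_comm a 2, mul_comm b 2, mul_left_comm c] at h'
    exact dvd_trans ((coprime_sq_sub_one hp.two_le ha b).dvd_of_dvd_mul_left h')
      (Nat.mul_dvd_mul_right hc _)
  obtain ⟨j, rfl⟩ := dvd_of_sq_sub_one_dvd hp.two_le ha h1
  have : j ∣ r := ⟨m, Nat.eq_of_mul_eq_mul_left (Nat.pos_of_ne_zero ha) (by rw [hnm, mul_assoc])⟩
  rcases (Nat.dvd_prime hr).mp this with rfl | rfl
  · exact Or.inl (by rw [hKb, mul_one])
  · exact Or.inr (by rw [hKb, hF])

end Cfsg.Agent.Lib.PSLTwo
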